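import Groth.Agent.Fibres16.NormFlat.Bound
import Groth.Agent.FlatOpen.API

/-!
# The associated graded module and openness of normal flatness
-/

set_option autoImplicit false
set_option linter.style.haveILetI false

universe u

open TensorProduct Function MvPolynomial

namespace Groth.Agent.Fibres16.NormFlat

open Groth.Agent.FlatOpen (Vec mapVec mapVec_apply mapVec_smul mapVec_mem_ext ext_span vecEquiv vecEquiv_tmul)

/-- Flatness of a localized module, on elements. -/
theorem flat_localized_iff {R S : Type u} [CommRing R] [CommRing S] [Algebra R S] (T : Submonoid S)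
    (M : Type u) [AddCommGroup M] [Module S M] [Module R M] [IsScalarTower R S M] :
    Module.Flat R (LocalizedModule T M) ↔ ∀ a : Ideal R, a.FG → ∀ x : M ⊗[R] a,
      LinearMap.lTensor M a.subtype x = 0 → ∃ t ∈ T, t • x = 0 := by
  let g := LocalizedModule.mkLinearMap T M
  let M' := LocalizedModule T M
  rw [Module.Flat.iff_lTensor_injective]
  refine forall_congr' fun a => forall_congr' fun _ => ⟨fun h x hx => ?_, fun h => ?_⟩
  · have h1 : AlgebraTensorModule.rTensor R a g x = 0 := by
      refine h ?_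
      rw [map_zero]
      show ((LinearMap.lTensor M' a.subtype) ∘ₗ (g.restrictScalars R).rTensor a) x = 0
      rw [LinearMap.lTensor_comp_rTensor, ← LinearMap.rTensor_comp_lTensor, LinearMap.comp_apply, hx, map_zero]
    obtain ⟨t, ht⟩ := IsLocalizedModule.exists_of_eq (S := T) (f := AlgebraTensorModule.rTensor R a g)
      (x₁ := x) (x₂ := 0) (by rw [h1, map_zero])
    exact ⟨t, t.2, by simpa [Submonoid.smul_def] using ht⟩
  · rw [injective_iff_map_eq_zero]
    intro y hy
    obtain ⟨⟨x, s⟩, hs⟩ := IsLocalizedModule.surj T (AlgebraTensorModule.rTensor R a g) y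
    simp only [Submonoid.smul_def] at hs
    have hcomm : ∀ (m : S) (z : LocalizedModule T M ⊗[R] a),
        LinearMap.lTensor M' a.subtype (m • z) = m • LinearMap.lTensor M' a.subtype z := fun m z =>
      (AlgebraTensorModule.lTensor S M' a.subtype).map_smul m z
    have h1 : (g.restrictScalars R).rTensor R (LinearMap.lTensor M a.subtype x) = 0 := by
      rw [← LinearMap.comp_apply, LinearMap.rTensor_comp_lTensor, ← LinearMap.lTensor_comp_rTensor,
        LinearMap.comp_apply]
      show LinearMap.lTensor M' a.subtype (AlgebraTensorModule.rTensor R a g x) = 0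
      rw [← hs, hcomm, hy, smul_zero]
    obtain ⟨t, ht⟩ := IsLocalizedModule.exists_of_eq (S := T) (f := AlgebraTensorModule.rTensor R R g)
      (x₁ := LinearMap.lTensor M a.subtype x) (x₂ := 0) (h1.trans (map_zero _).symm)
    obtain ⟨t', ht', hx⟩ := h ((t : S) • x) (by
      show AlgebraTensorModule.lTensor S M a.subtype ((t : S) • x) = 0
      rw [map_smul]
      simpa [Submonoid.smul_def] using ht)
    have h2 : (t' * (t : S)) • ((s : S) • y) = 0 := by
      rw [hs, ← map_smul, mul_smul, hx, map_zero]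
    rw [← mul_smul] at h2
    exact IsLocalizedModule.smul_injective (S := T) (AlgebraTensorModule.rTensor R a g)
      ⟨t' * t * s, mul_mem (mul_mem ht' t.2) s.2⟩ (h2.trans (smul_zero _).symm)

variable {A B : Type u} [CommRing A] [CommRing B] [Algebra A B] {N r : ℕ} {w : Fin N → ℕ} {J : Ideal B}
  {M : Type u} [AddCommGroup M] [Module B M] [Module A M] [IsScalarTower A B M]
  {π : MvPolynomial (Fin N) A →ₐ[A] B} {φ : Vec N r A →ₗ[A] M}

/-- The data of a weighted presentation of `(B, J, M)`. -/
structure IsWtPres (w : Fin N → ℕ) (J : Ideal B) (π : MvPolynomial (Fin N) A →ₐ[A] B)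
    (φ : Vec N r A →ₗ[A] M) : Prop where
  wt_le : ∀ i, w i ≤ 1
  surj : Surjective π
  map_idl : (idl w A).map π = J
  surj' : Surjective φ
  smul : ∀ p v, φ (p • v) = π p • φ v

/-- The kernel of a presentation. -/
def kerP (h : IsWtPres w J π φ) : Submodule (MvPolynomial (Fin N) A) (Vec N r A) where
  carrier := {v | φ v = 0}
  add_mem' ha hb := by simp_all
  zero_mem' := map_zero φ
  smul_mem' p v hv := by simp_all [h.smul]

namespace IsWtPres

variable (h : IsWtPres w J π φ)
include h

theorem map_mem {m : ℕ} {v : Vec N r A} (hv : v ∈ fil w A m) : φ v ∈ (J ^ m • ⊤ : Submodule B M) := by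
  refine Submodule.smul_induction_on (p := fun v => φ v ∈ _) hv (fun p hp z _ => ?_)
    (fun a b ha hb => by rw [map_add]; exact add_mem ha hb)
  rw [h.smul]
  refine Submodule.smul_mem_smul ?_ Submodule.mem_top
  rw [← h.map_idl, ← Ideal.map_pow]
  exact Ideal.mem_map_of_mem π hp

theorem exists_lift {m : ℕ} {y : M} (hy : y ∈ (J ^ m • ⊤ : Submodule B M)) :
    ∃ v ∈ fil w A m, φ v = y := by
  refine Submodule.smul_induction_on hy (fun b hb z _ => ?_) (fun a b ha hb => ?_)
  · rw [← h.map_idl, ← Ideal.map_pow] at hb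
    obtain ⟨p, hp, rfl⟩ := (Ideal.mem_map_iff_of_surjective π h.surj).1 hb
    obtain ⟨v, rfl⟩ := h.surj' z
    exact ⟨p • v, Submodule.smul_mem_smul hp Submodule.mem_top, h.smul p v⟩
  · obtain ⟨u, hu, rfl⟩ := ha
    obtain ⟨v, hv, rfl⟩ := hb
    exact ⟨u + v, add_mem hu hv, map_add φ u v⟩

theorem map_mem_iff {m : ℕ} {v : Vec N r A} :
    φ v ∈ (J ^ m • ⊤ : Submodule B M) ↔ v ∈ kerP h ⊔ fil w A m := by
  constructor
  · intro hv
    obtain ⟨u, hu, huv⟩ := h.exists_lift hv
    refine Submodule.mem_sup.2 ⟨v - u, ?_, u, hu, sub_add_cancel v u⟩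
    show φ (v - u) = 0
    rw [map_sub, huv, sub_self]
  · intro hv
    obtain ⟨z, hz, u, hu, rfl⟩ := Submodule.mem_sup.1 hv
    rw [map_add, show φ z = 0 from hz, zero_add]
    exact h.map_mem hu

theorem grFlat (hgrM : ∀ k : ℕ, Module.Flat A (FlatSect.piece J M k)) : GrFlat w (kerP h) := by
  intro m
  have hM : ∀ k, Module.Flat A (M ⧸ (J ^ k • ⊤ : Submodule B M)) := by
    intro k
    induction k with
    | zero =>
      haveI : Subsingleton (M ⧸ (J ^ 0 • ⊤ : Submodule B M)) := by
        rw [Submodule.Quotient.subsingleton_iff, pow_zero, Ideal.one_eq_top, Submodule.top_smul]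
      infer_instance
    | succ k ih =>
      have hle : (J ^ (k + 1) • ⊤ : Submodule B M) ≤ J ^ k • ⊤ :=
        Submodule.smul_mono_left (Ideal.pow_le_pow_right (Nat.le_succ k))
      let a : FlatSect.piece J M k →ₗ[B] M ⧸ (J ^ (k + 1) • ⊤ : Submodule B M) :=
        Submodule.mapQ _ _ (Submodule.subtype _) le_rfl
      let b : (M ⧸ (J ^ (k + 1) • ⊤ : Submodule B M)) →ₗ[B] M ⧸ (J ^ k • ⊤ : Submodule B M) :=
        Submodule.factor hle
      have ha : Injective (a.restrictScalars A) := by
        show Injective a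
        rw [← LinearMap.ker_eq_bot, Submodule.ker_mapQ, Submodule.mkQ_map_self]
      have hb : Surjective (b.restrictScalars A) := Submodule.factor_surjective hle
      have hab : Exact (a.restrictScalars A) (b.restrictScalars A) := fun z => by
        obtain ⟨x, rfl⟩ := Submodule.Quotient.mk_surjective _ z
        constructor
        · intro hx
          exact ⟨Submodule.Quotient.mk ⟨x, (Submodule.Quotient.mk_eq_zero _).mp hx⟩, rfl⟩
        · rintro ⟨y, hy⟩
          obtain ⟨y, rfl⟩ := Submodule.Quotient.mk_surjective _ y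
          rw [← hy]
          exact (Submodule.Quotient.mk_eq_zero _).mpr y.2
      haveI := hgrM k
      haveI := ih
      exact FlatSect.flat_of_ext _ _ hab hb ha
  let f : Vec N r A →ₗ[A] M ⧸ (J ^ m • ⊤ : Submodule B M) :=
    ((J ^ m • ⊤ : Submodule B M).mkQ.restrictScalars A) ∘ₗ φ
  have hf : Surjective f := (Submodule.mkQ_surjective _).comp h.surj'
  have hk : LinearMap.ker f = (kerP h ⊔ fil w A m).restrictScalars A := by
    ext v
    rw [LinearMap.mem_ker, Submodule.restrictScalars_mem, ← h.map_mem_iff]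
    exact Submodule.Quotient.mk_eq_zero _
  haveI := hM m
  exact Module.Flat.of_linearEquiv (((Submodule.Quotient.restrictScalarsEquiv A _).symm.trans
    (Submodule.quotEquivOfEq _ _ hk.symm)).trans (f.quotKerEquivOfSurjective hf))

end IsWtPres

/-- The leading classes. -/
noncomputable def cls (h : IsWtPres w J π φ) (n : ℕ) : Vec N r A →ₗ[A] FlatSect.piece J M n :=
  (Submodule.mkQ _).restrictScalars A ∘ₗ
    LinearMap.codRestrict ((J ^ n • ⊤ : Submodule B M).restrictScalars A) (φ ∘ₗ cmp w n)
      (fun v => h.map_mem (cmp_mem h.wt_le n v))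

/-- The submodule of initial forms. -/
noncomputable def ini (h : IsWtPres w J π φ) : Submodule (MvPolynomial (Fin N) A) (Vec N r A) :=
  Submodule.span _ (⋃ n : ℕ, cmp w n '' ((kerP h ⊓ fil w A n : Submodule _ _) : Set (Vec N r A)))

/-- The kernel of `(B/J)[x]^r` onto the graded module. -/
noncomputable def rel (h : IsWtPres w J π φ) :
    Submodule (MvPolynomial (Fin N) (B ⧸ J)) (Vec N r (B ⧸ J)) :=
  FlatOpen.ext (B ⧸ J) (ini h) ⊔ Submodule.span _
    ((fun ij : Fin N × Fin r =>
      (X ij.1 - C (Ideal.Quotient.mk J (π (X ij.1)))) • Pi.single ij.2 (1 : MvPolynomial (Fin N) (B ⧸ J))) ''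
        {ij | w ij.1 = 0})

/-- The graded module. -/
abbrev G (h : IsWtPres w J π φ) : Type u := Vec N r (B ⧸ J) ⧸ rel h

namespace IsWtPres

variable (h : IsWtPres w J π φ)
include h

theorem cls_of_mem {n : ℕ} {v : Vec N r A} (hv : v ∈ fil w A n) :
    cls h n v = Submodule.Quotient.mk ⟨φ v, h.map_mem hv⟩ := by
  show Submodule.Quotient.mk (⟨φ (cmp w n v), _⟩ : (J ^ n • ⊤ : Submodule B M)) = _
  refine (Submodule.Quotient.eq _).2 ?_
  show φ (cmp w n v) - φ v ∈ (J ^ (n + 1) • ⊤ : Submodule B M)
  rw [← map_sub, ← neg_sub, map_neg]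
  exact neg_mem (h.map_mem (sub_cmp_mem h.wt_le hv))

theorem cls_cmp (n : ℕ) (v : Vec N r A) : cls h n (cmp w n v) = cls h n v := by
  refine congrArg Submodule.Quotient.mk (Subtype.ext ?_)
  show φ (cmp w n (cmp w n v)) = φ (cmp w n v)
  rw [cmp_cmp, if_pos rfl]

theorem cls_eq_zero_iff {n : ℕ} {v : Vec N r A} :
    cls h n v = 0 ↔ cmp w n v ∈ kerP h ⊔ fil w A (n + 1) := by
  rw [← h.map_mem_iff]
  exact Submodule.Quotient.mk_eq_zero _

theorem cls_surjective {n : ℕ} (y : FlatSect.piece J M n) :
    ∃ v ∈ fil w A n, cls h n v = y := by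
  obtain ⟨⟨y, hy⟩, rfl⟩ := Submodule.Quotient.mk_surjective _ y
  obtain ⟨v, hv, rfl⟩ := h.exists_lift hy
  exact ⟨v, hv, h.cls_of_mem hv⟩

theorem cmp_mem_ini {n : ℕ} {v : Vec N r A} (hv : v ∈ fil w A n)
    (hv' : v ∈ kerP h ⊔ fil w A (n + 1)) : cmp w n v ∈ ini h := by
  obtain ⟨z, hz, f, hf, rfl⟩ := Submodule.mem_sup.1 hv'
  rw [map_add, cmp_eq_zero h.wt_le hf (Nat.lt_succ_self n), add_zero]
  refine Submodule.subset_span (Set.mem_iUnion.2 ⟨n, z, ⟨hz, ?_⟩, rfl⟩)
  simpa using sub_mem hv (fil_antitone (Nat.le_succ n) hf)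

theorem cls_eq_zero_of_mem_ini {v : Vec N r A} (hv : v ∈ ini h) (n : ℕ) : cls h n v = 0 := by
  suffices hs : ∀ p : MvPolynomial (Fin N) A, cls h n (p • v) = 0 by simpa using hs 1
  induction hv using Submodule.span_induction with
  | zero => intro p; rw [smul_zero, map_zero]
  | add a b _ _ ha hb => intro p; rw [smul_add, map_add, ha, hb, add_zero]
  | smul q a _ ha => intro p; rw [← mul_smul]; exact ha _
  | mem v hv =>
    obtain ⟨d, z, hz, rfl⟩ := Set.mem_iUnion.1 hv
    intro p
    induction p using MvPolynomial.induction_on' with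
    | add p q hp hq => rw [add_smul, map_add, hp, hq, add_zero]
    | monomial s c =>
      have hm := monomial_mem_idl_pow h.wt_le s c
      have hhom : monomial s c • cmp w d z = cmp w (Finsupp.weight w s + d) (monomial s c • cmp w d z) := by
        rw [cmp_smul h.wt_le hm (cmp_mem h.wt_le d z), cmp_cmp, if_pos rfl,
          (isWeightedHomogeneous_monomial w s c rfl).weightedHomogeneousComponent_same]
      rw [cls_eq_zero_iff, hhom, cmp_cmp]
      split_ifs with hn
      · subst hn
        rw [← hhom, show monomial s c • cmp w d z =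
          monomial s c • z + monomial s c • -(z - cmp w d z) by rw [← smul_add]; congr 1; abel]
        refine Submodule.add_mem_sup (Submodule.smul_mem _ _ hz.1) ?_
        rw [add_assoc]
        exact smul_mem_fil hm (neg_mem (sub_cmp_mem h.wt_le hz.2))
      · exact zero_mem _

theorem fg_ini {c : ℕ} (hc : Bounded w c (kerP h)) (hfg : ∀ n, (kerP h ⊓ fil w A n).FG) :
    (ini h).FG := by
  classical
  choose g hg using hfg
  refine ⟨(Finset.range (c + 1)).biUnion fun d => (g d).image (cmp w d), le_antisymm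
    (Submodule.span_le.2 fun v hv => ?_) (Submodule.span_le.2 fun v hv => ?_)⟩
  · obtain ⟨d, -, hd⟩ := Finset.mem_biUnion.1 (Finset.mem_coe.1 hv)
    obtain ⟨z, hz, rfl⟩ := Finset.mem_image.1 hd
    exact Submodule.subset_span (Set.mem_iUnion.2 ⟨d, z, hg d ▸ Submodule.subset_span hz, rfl⟩)
  · obtain ⟨n, z, hz, rfl⟩ := Set.mem_iUnion.1 hv
    clear hv
    rw [SetLike.mem_coe] at hz ⊢
    induction n generalizing z with
    | zero =>
      rw [← hg 0] at hz
      induction hz using Submodule.span_induction with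
      | mem x hx =>
        exact Submodule.subset_span (Finset.mem_biUnion.2
          ⟨0, Finset.mem_range.2 (Nat.succ_pos c), Finset.mem_image_of_mem _ hx⟩)
      | zero => rw [map_zero]; exact zero_mem _
      | add a b _ _ ha hb => rw [map_add]; exact add_mem ha hb
      | smul p a ha' ha =>
        have hm : a ∈ fil w A 0 := by rw [fil_zero]; exact Submodule.mem_top
        have e := cmp_smul h.wt_le (show p ∈ idl w A ^ 0 by simp) hm
        rw [add_zero] at e
        rw [e]
        exact Submodule.smul_mem _ _ ha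
    | succ m ih =>
      by_cases hmc : m + 1 ≤ c
      · rw [← hg (m + 1)] at hz
        induction hz using Submodule.span_induction with
        | mem x hx =>
          exact Submodule.subset_span (Finset.mem_biUnion.2
            ⟨m + 1, Finset.mem_range.2 (Nat.lt_succ_of_le hmc), Finset.mem_image_of_mem _ hx⟩)
        | zero => rw [map_zero]; exact zero_mem _
        | add a b _ _ ha hb => rw [map_add]; exact add_mem ha hb
        | smul p a ha' ha =>
          have e := cmp_smul h.wt_le (show p ∈ idl w A ^ 0 by simp) (hg (m + 1) ▸ ha' : a ∈ kerP h ⊓ fil w A (m + 1)).2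
          rw [zero_add] at e
          rw [e]
          exact Submodule.smul_mem _ _ ha
      · obtain ⟨y, hy, f, hf, rfl⟩ := Submodule.mem_sup.1 (hc m (by omega) hz)
        rw [map_add, cmp_eq_zero h.wt_le hf (Nat.lt_succ_self _), add_zero]
        clear hz
        refine Submodule.smul_induction_on (p := fun y => cmp w (m + 1) y ∈ _) hy (fun a ha t ht => ?_)
          (fun a b ha hb => by rw [map_add]; exact add_mem ha hb)
        have e := cmp_smul h.wt_le (show a ∈ idl w A ^ 1 by rwa [pow_one]) ht.2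
        rw [add_comm 1 m] at e
        rw [e]
        exact Submodule.smul_mem _ _ (ih t ht)

theorem finitePresentation_G (hL : (ini h).FG) :
    Module.FinitePresentation (MvPolynomial (Fin N) (B ⧸ J)) (G h) := by
  classical
  refine Module.finitePresentation_of_surjective (rel h).mkQ (Submodule.mkQ_surjective _) ?_
  rw [Submodule.ker_mkQ]
  refine Submodule.FG.sup ?_ (Submodule.fg_span ((Set.toFinite _).image _))
  obtain ⟨g, hg⟩ := hL
  exact ⟨g.image (mapVec (B ⧸ J)), by rw [← hg, ext_span, Finset.coe_image]⟩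

theorem var_smul {i : Fin N} (hi : w i = 0) (x : G h) :
    (X i : MvPolynomial (Fin N) (B ⧸ J)) • x = Ideal.Quotient.mk J (π (X i)) • x := by
  obtain ⟨u, rfl⟩ := Submodule.Quotient.mk_surjective _ x
  rw [← Submodule.Quotient.mk_smul, ← Submodule.Quotient.mk_smul, Submodule.Quotient.eq,
    ← algebraMap_smul (MvPolynomial (Fin N) (B ⧸ J)) (Ideal.Quotient.mk J (π (X i))) u, ← sub_smul,
    show u = ∑ j, u j • Pi.single j (1 : MvPolynomial (Fin N) (B ⧸ J)) from by
      funext j; simp [Finset.sum_apply, Pi.single_apply], Finset.smul_sum]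
  refine sum_mem fun j _ => ?_
  rw [smul_comm]
  exact Submodule.smul_mem _ _ (Submodule.mem_sup_right (Submodule.subset_span ⟨(i, j), hi, rfl⟩))

end IsWtPres

/-- Leading forms in `G`. -/
noncomputable def lead (h : IsWtPres w J π φ) (n : ℕ) : Vec N r A →ₗ[A] G h :=
  ((rel h).mkQ.restrictScalars A) ∘ₗ mapVec (B ⧸ J) ∘ₗ cmp w n

namespace IsWtPres

variable (h : IsWtPres w J π φ)
include h

theorem lead_smul (n : ℕ) (p : MvPolynomial (Fin N) A) {v : Vec N r A} (hv : v ∈ fil w A n) :
    lead h n (p • v) = π p • lead h n v := by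
  induction p using MvPolynomial.induction_on generalizing v with
  | C a =>
    rw [← MvPolynomial.algebraMap_eq, algebraMap_smul, map_smul, AlgHom.commutes, algebraMap_smul]
  | add p q hp hq => rw [add_smul, map_add, hp hv, hq hv, map_add, add_smul]
  | mul_X p i hp =>
    rw [mul_smul, hp (Submodule.smul_mem _ _ hv), map_mul, mul_smul]
    congr 1
    rcases Nat.le_one_iff_eq_zero_or_eq_one.1 (h.wt_le i) with hi | hi
    · have e := cmp_smul h.wt_le (show (X i : MvPolynomial (Fin N) A) ∈ idl w A ^ 0 by simp) hv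
      rw [zero_add, ((hi ▸ isWeightedHomogeneous_X A w i :
        IsWeightedHomogeneous w (X i : MvPolynomial (Fin N) A) 0)).weightedHomogeneousComponent_same] at e
      show (rel h).mkQ (mapVec (B ⧸ J) (cmp w n (X i • v))) = _
      rw [e, mapVec_smul, map_X, map_smul, h.var_smul hi]
      rfl
    · have hJ : π (X i) ∈ J := h.map_idl ▸ Ideal.mem_map_of_mem π
        (Ideal.subset_span (Set.mem_image_of_mem _ (show w i ≠ 0 by omega)))
      rw [show lead h n (X i • v) = 0 by
          show (rel h).mkQ (mapVec (B ⧸ J) (cmp w n (X i • v))) = _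
          rw [cmp_eq_zero h.wt_le (smul_mem_fil (a := 1) (by
            rw [pow_one]; exact Ideal.subset_span (Set.mem_image_of_mem _ (show w i ≠ 0 by omega))) hv)
            (by omega), map_zero, map_zero],
        ← algebraMap_smul (B ⧸ J) (π (X i)), Ideal.Quotient.algebraMap_eq,
        Ideal.Quotient.eq_zero_iff_mem.2 hJ, zero_smul]

theorem exists_incl (n : ℕ) :
    ∃ ι : FlatSect.piece J M n →ₗ[B] G h, ∀ v ∈ fil w A n, ι (cls h n v) = lead h n v := by
  let f : (fil w A n : Submodule _ (Vec N r A)).restrictScalars A →ₗ[A] FlatSect.piece J M n :=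
    cls h n ∘ₗ Submodule.subtype _
  let g : (fil w A n : Submodule _ (Vec N r A)).restrictScalars A →ₗ[A] G h :=
    lead h n ∘ₗ Submodule.subtype _
  have hf : Surjective f := fun y => by
    obtain ⟨v, hv, rfl⟩ := h.cls_surjective y
    exact ⟨⟨v, hv⟩, rfl⟩
  have hker : LinearMap.ker f ≤ LinearMap.ker g := fun v hv => by
    have h1 : (v : Vec N r A) ∈ kerP h ⊔ fil w A (n + 1) := by
      have h2 : cls h n (v : Vec N r A) = 0 := hv
      have h3 := h.cls_eq_zero_iff.1 h2
      simpa using add_mem h3 (Submodule.mem_sup_right (sub_cmp_mem h.wt_le v.2))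
    exact (Submodule.Quotient.mk_eq_zero (rel h)).2
      (Submodule.mem_sup_left (mapVec_mem_ext _ _ (h.cmp_mem_ini v.2 h1)))
  let ι₀ : FlatSect.piece J M n →ₗ[A] G h :=
    (Submodule.liftQ _ g hker) ∘ₗ (f.quotKerEquivOfSurjective hf).symm.toLinearMap
  have key : ∀ v (hv : v ∈ fil w A n), ι₀ (cls h n v) = lead h n v := fun v hv => by
    have e : (f.quotKerEquivOfSurjective hf).symm (cls h n v) = Submodule.Quotient.mk ⟨v, hv⟩ :=
      (f.quotKerEquivOfSurjective hf).symm_apply_eq.2 rfl
    show Submodule.liftQ _ g hker ((f.quotKerEquivOfSurjective hf).symm (cls h n v)) = _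
    rw [e]
    rfl
  refine ⟨{ toFun := ι₀, map_add' := map_add ι₀, map_smul' := fun b y => ?_ }, key⟩
  obtain ⟨v, hv, rfl⟩ := h.cls_surjective y
  obtain ⟨p, rfl⟩ := h.surj b
  have e : π p • cls h n v = cls h n (p • v) := by
    rw [h.cls_of_mem hv, h.cls_of_mem (Submodule.smul_mem _ p hv)]
    exact congrArg Submodule.Quotient.mk (Subtype.ext (h.smul p v).symm)
  rw [RingHom.id_apply, e, key _ (Submodule.smul_mem _ p hv), key v hv, h.lead_smul n p hv]

end IsWtPres

/-- The pieces, over `B ⧸ J`. -/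
abbrev Gr (J : Ideal B) (M : Type u) [AddCommGroup M] [Module B M] (n : ℕ) : Type u :=
  (B ⧸ J) ⊗[B] FlatSect.piece J M n

/-- Classes of polynomial vectors over `B ⧸ J`. -/
noncomputable def proj (h : IsWtPres w J π φ) (n : ℕ) : Vec N r (B ⧸ J) →ₗ[B ⧸ J] Gr J M n :=
  LinearMap.liftBaseChange (B ⧸ J)
      (((TensorProduct.mk B (B ⧸ J) (FlatSect.piece J M n) 1).restrictScalars A) ∘ₗ cls h n) ∘ₗ
    (vecEquiv (R₀ := A) (B ⧸ J)).symm.toLinearMap

namespace IsWtPres

variable (h : IsWtPres w J π φ)
include h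

theorem proj_mapVec (n : ℕ) (v : Vec N r A) :
    proj h n (mapVec (B ⧸ J) v) = (1 : B ⧸ J) ⊗ₜ[B] cls h n v := by
  have e : (vecEquiv (R₀ := A) (B ⧸ J)).symm (mapVec (B ⧸ J) v) = (1 : B ⧸ J) ⊗ₜ[A] v := by
    rw [LinearEquiv.symm_apply_eq, vecEquiv_tmul, one_smul]
  show LinearMap.liftBaseChange (B ⧸ J) _ ((vecEquiv (R₀ := A) (B ⧸ J)).symm _) = _
  rw [e, LinearMap.liftBaseChange_tmul, one_smul]
  rfl

omit h in
theorem vec_induction {P : Vec N r (B ⧸ J) → Prop} (h0 : P 0) (hadd : ∀ x y, P x → P y → P (x + y))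
    (hsmul : ∀ (a : B ⧸ J) (v : Vec N r A), P (a • mapVec (B ⧸ J) v)) (u : Vec N r (B ⧸ J)) : P u := by
  obtain ⟨t, rfl⟩ := (vecEquiv (R₀ := A) (B ⧸ J)).surjective u
  induction t with
  | zero => rwa [map_zero]
  | add x y hx hy => rw [map_add]; exact hadd _ _ hx hy
  | tmul a v => rw [vecEquiv_tmul]; exact hsmul a v

theorem cls_var_smul {i : Fin N} (hi : w i = 0) (n : ℕ) (v : Vec N r A) :
    cls h n ((X i : MvPolynomial (Fin N) A) • v) = π (X i) • cls h n v := by
  obtain ⟨D, hD⟩ := exists_sum_cmp_eq (w := w) v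
  have hX : (X i : MvPolynomial (Fin N) A) ∈ idl w A ^ 0 := by simp
  have hX' : weightedHomogeneousComponent w 0 (X i : MvPolynomial (Fin N) A) = X i :=
    ((hi ▸ isWeightedHomogeneous_X A w i :
      IsWeightedHomogeneous w (X i : MvPolynomial (Fin N) A) 0)).weightedHomogeneousComponent_same
  have hd : ∀ d, cmp w n ((X i : MvPolynomial (Fin N) A) • cmp w d v) =
      (X i : MvPolynomial (Fin N) A) • cmp w n (cmp w d v) := by
    intro d
    have e := cmp_smul h.wt_le hX (cmp_mem h.wt_le d v)
    rw [zero_add, hX', cmp_cmp, if_pos rfl] at e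
    rw [← e, cmp_cmp, cmp_cmp]
    split_ifs with hnd
    · rw [e]
    · rw [smul_zero]
  have : cmp w n ((X i : MvPolynomial (Fin N) A) • v) = (X i : MvPolynomial (Fin N) A) • cmp w n v := by
    rw [hD, Finset.smul_sum, map_sum, map_sum, Finset.smul_sum]
    exact Finset.sum_congr rfl fun d _ => hd d
  refine congrArg Submodule.Quotient.mk (Subtype.ext ?_)
  show φ (cmp w n ((X i : MvPolynomial (Fin N) A) • v)) = π (X i) • φ (cmp w n v)
  rw [this, h.smul]

theorem rel_le_ker (n : ℕ) : (rel h).restrictScalars (B ⧸ J) ≤ LinearMap.ker (proj h n) := by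
  intro v hv
  obtain ⟨a, ha, b, hb, rfl⟩ := Submodule.mem_sup.1 (hv : v ∈ rel h)
  rw [LinearMap.mem_ker, map_add]
  have ha' : proj h n a = 0 := by
    clear hv
    rw [← Submodule.restrictScalars_mem (B ⧸ J), FlatOpen.ext_eq_span_R] at ha
    induction ha using Submodule.span_induction with
    | mem x hx =>
      obtain ⟨l, hl, rfl⟩ := hx
      rw [h.proj_mapVec, h.cls_eq_zero_of_mem_ini hl, tmul_zero]
    | zero => exact map_zero _
    | add x y _ _ hx hy => rw [map_add, hx, hy, add_zero]
    | smul c x _ hx => rw [map_smul, hx, smul_zero]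
  have hb' : proj h n b = 0 := by
    suffices hs : ∀ p : MvPolynomial (Fin N) (B ⧸ J), proj h n (p • b) = 0 by simpa using hs 1
    clear hv ha ha'
    induction hb using Submodule.span_induction with
    | zero => intro p; rw [smul_zero, map_zero]
    | add x y _ _ hx hy => intro p; rw [smul_add, map_add, hx, hy, add_zero]
    | smul q x _ hx => intro p; rw [← mul_smul]; exact hx _
    | mem x hx =>
      obtain ⟨⟨i, j⟩, hi, rfl⟩ := hx
      intro p
      rw [smul_comm, sub_smul, map_sub, sub_eq_zero, ← MvPolynomial.algebraMap_eq, algebraMap_smul,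
        LinearMap.map_smul (proj h n) (Ideal.Quotient.mk J _)]
      generalize p • Pi.single j (1 : MvPolynomial (Fin N) (B ⧸ J)) = u
      refine vec_induction (A := A) (P := fun u => proj h n ((X i : MvPolynomial (Fin N) (B ⧸ J)) • u) =
        Ideal.Quotient.mk J (π (X i)) • proj h n u) ?_ ?_ ?_ u
      · simp
      · intro x y hx hy; rw [smul_add, map_add, map_add, hx, hy, smul_add]
      · intro a v
        rw [smul_comm, LinearMap.map_smul (proj h n) a, LinearMap.map_smul (proj h n) a, ← map_X (algebraMap A (B ⧸ J)) i, ← mapVec_smul, h.proj_mapVec,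
          h.cls_var_smul hi, h.proj_mapVec, tmul_smul, ← algebraMap_smul (B ⧸ J) (π (X i)),
          Ideal.Quotient.algebraMap_eq, smul_comm]
  rw [ha', hb', add_zero]

end IsWtPres

/-- The projection of the graded module to a piece. -/
noncomputable def projG (h : IsWtPres w J π φ) (n : ℕ) : G h →ₗ[B ⧸ J] Gr J M n :=
  Submodule.liftQ _ (proj h n) (h.rel_le_ker n) ∘ₗ
    (Submodule.Quotient.restrictScalarsEquiv (B ⧸ J) (rel h)).symm.toLinearMap

/-- The inclusion of a piece in the graded module. -/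
noncomputable def inclG (h : IsWtPres w J π φ) (n : ℕ) : Gr J M n →ₗ[B ⧸ J] G h :=
  LinearMap.liftBaseChange (B ⧸ J) (h.exists_incl n).choose

namespace IsWtPres

variable (h : IsWtPres w J π φ)
include h

theorem projG_mk (n : ℕ) (u : Vec N r (B ⧸ J)) : projG h n (Submodule.Quotient.mk u) = proj h n u := rfl

theorem inclG_cls (n : ℕ) {v : Vec N r A} (hv : v ∈ fil w A n) :
    inclG h n ((1 : B ⧸ J) ⊗ₜ[B] cls h n v) = lead h n v := by
  rw [inclG, LinearMap.liftBaseChange_tmul, one_smul, (h.exists_incl n).choose_spec v hv]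

/-- The image of the weight filtration in `G`. -/
noncomputable def filG (n : ℕ) : Submodule (MvPolynomial (Fin N) (B ⧸ J)) (G h) :=
  (fil w (B ⧸ J) n).map (rel h).mkQ

theorem gr_induction {n : ℕ} {P : Gr J M n → Prop} (h0 : P 0) (hadd : ∀ x y, P x → P y → P (x + y))
    (hsmul : ∀ (a : B ⧸ J) (v : Vec N r A), v ∈ fil w A n → P (a • ((1 : B ⧸ J) ⊗ₜ[B] cls h n v)))
    (y : Gr J M n) : P y := by
  induction y using TensorProduct.induction_on with
  | zero => exact h0
  | add x y hx hy => exact hadd _ _ hx hy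
  | tmul a y =>
    obtain ⟨v, hv, rfl⟩ := h.cls_surjective y
    have := hsmul a v hv
    rwa [smul_tmul', smul_eq_mul, mul_one] at this

theorem inclG_mem (n : ℕ) (y : Gr J M n) : inclG h n y ∈ h.filG n := by
  refine h.gr_induction (P := fun y => inclG h n y ∈ h.filG n) (by simp) (fun a b ha hb => ?_)
    (fun a v hv => ?_) y
  · rw [map_add]; exact add_mem ha hb
  · rw [map_smul, h.inclG_cls n hv]
    refine Submodule.smul_of_tower_mem _ a ⟨mapVec (B ⧸ J) (cmp w n v), ?_, rfl⟩
    rw [SetLike.mem_coe, ← ext_fil (R₀ := A) (B ⧸ J)]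
    exact mapVec_mem_ext _ _ (cmp_mem h.wt_le n v)

theorem projG_inclG (n : ℕ) (y : Gr J M n) : projG h n (inclG h n y) = y := by
  refine h.gr_induction (P := fun y => projG h n (inclG h n y) = y) (by simp)
    (fun a b ha hb => by rw [map_add, map_add, ha, hb]) (fun a v hv => ?_) y
  rw [map_smul, map_smul, h.inclG_cls n hv,
    show lead h n v = Submodule.Quotient.mk (mapVec (B ⧸ J) (cmp w n v)) from rfl, projG_mk, proj_mapVec,
    cls_cmp]

theorem projG_filG {n : ℕ} {g : G h} (hg : g ∈ h.filG (n + 1)) : projG h n g = 0 := by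
  obtain ⟨u, hu, rfl⟩ := hg
  rw [Submodule.mkQ_apply, projG_mk]
  rw [SetLike.mem_coe, ← ext_fil (R₀ := A) (B ⧸ J), ← Submodule.restrictScalars_mem (B ⧸ J),
    FlatOpen.ext_eq_span_R] at hu
  induction hu using Submodule.span_induction with
  | mem x hx =>
    obtain ⟨v, hv, rfl⟩ := hx
    rw [h.proj_mapVec, h.cls_eq_zero_iff.2, tmul_zero]
    rw [cmp_eq_zero h.wt_le hv (Nat.lt_succ_self n)]
    exact zero_mem _
  | zero => exact map_zero _
  | add x y _ _ hx hy => rw [map_add, hx, hy, add_zero]
  | smul c x _ hx => rw [map_smul, hx, smul_zero]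

theorem projG_smul (n : ℕ) (s : MvPolynomial (Fin N) (B ⧸ J)) {g : G h} (hg : g ∈ h.filG n) :
    projG h n (s • g) = aeval (fun i => Ideal.Quotient.mk J (π (X i))) s • projG h n g := by
  induction s using MvPolynomial.induction_on generalizing g with
  | C a => rw [← MvPolynomial.algebraMap_eq, algebraMap_smul, map_smul, AlgHom.commutes]; rfl
  | add p q hp hq => rw [add_smul, map_add, hp hg, hq hg, map_add, add_smul]
  | mul_X p i hp =>
    rw [mul_smul, hp (Submodule.smul_mem _ _ hg), map_mul, mul_smul, aeval_X]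
    congr 1
    rcases Nat.le_one_iff_eq_zero_or_eq_one.1 (h.wt_le i) with hi | hi
    · rw [h.var_smul hi, map_smul]
    · have hJ : π (X i) ∈ J := h.map_idl ▸ Ideal.mem_map_of_mem π
        (Ideal.subset_span (Set.mem_image_of_mem _ (show w i ≠ 0 by omega)))
      rw [Ideal.Quotient.eq_zero_iff_mem.2 hJ, zero_smul]
      obtain ⟨u, hu, rfl⟩ := hg
      refine h.projG_filG ⟨X i • u, idl_smul_fil_le n (Submodule.smul_mem_smul
        (Ideal.subset_span (Set.mem_image_of_mem _ (show w i ≠ 0 by omega))) hu), ?_⟩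
      rw [map_smul]

theorem exists_decomp (g : G h) :
    ∃ D, ∀ D' ≥ D, g = ∑ n ∈ Finset.range D', inclG h n (projG h n g) := by
  obtain ⟨u, rfl⟩ := Submodule.Quotient.mk_surjective _ g
  refine vec_induction (A := A) (P := fun u => ∃ D, ∀ D' ≥ D, (Submodule.Quotient.mk u : G h) =
    ∑ n ∈ Finset.range D', inclG h n (projG h n (Submodule.Quotient.mk u))) ⟨0, fun _ _ => by simp⟩ ?_ ?_ u
  · rintro x y ⟨D₁, h₁⟩ ⟨D₂, h₂⟩
    refine ⟨max D₁ D₂, fun D hD => ?_⟩
    simp only [Submodule.Quotient.mk_add, map_add, Finset.sum_add_distrib,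
      ← h₁ D (le_of_max_le_left hD), ← h₂ D (le_of_max_le_right hD)]
  · intro a v
    obtain ⟨D, hD⟩ := exists_sum_cmp_eq (w := w) v
    refine ⟨D, fun D' hD' => ?_⟩
    have e : ∀ n, inclG h n (projG h n (Submodule.Quotient.mk (a • mapVec (B ⧸ J) v))) =
        Submodule.Quotient.mk (a • mapVec (B ⧸ J) (cmp w n v)) := fun n => by
      rw [projG_mk, map_smul, proj_mapVec, ← cls_cmp, map_smul, h.inclG_cls n (cmp_mem h.wt_le n v)]
      show a • Submodule.Quotient.mk (mapVec (B ⧸ J) (cmp w n (cmp w n v))) = _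
      rw [cmp_cmp, if_pos rfl, Submodule.Quotient.mk_smul]
    have hsum : v = ∑ n ∈ Finset.range D', cmp w n v := by
      refine hD.trans (Finset.sum_subset (Finset.range_mono hD') fun n _ hn => ?_)
      rw [hD, map_sum]
      refine Finset.sum_eq_zero fun d hd => ?_
      rw [cmp_cmp, if_neg]
      rintro rfl
      exact hn hd
    rw [Finset.sum_congr rfl fun n _ => e n]
    simp only [← Submodule.mkQ_apply, ← map_sum, ← Finset.smul_sum, ← hsum]

theorem flat_iff (qbar : Ideal (B ⧸ J)) [qbar.IsPrime] :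
    (∀ n, FlatCA.FlatAt (B ⧸ J) qbar (Gr J M n)) ↔ FlatCA.FlatAt (B ⧸ J)
      (qbar.comap (aeval fun i => Ideal.Quotient.mk J (π (X i)) :
        MvPolynomial (Fin N) (B ⧸ J) →ₐ[B ⧸ J] B ⧸ J)) (G h) := by
  let S := MvPolynomial (Fin N) (B ⧸ J)
  let ev : S →ₐ[B ⧸ J] B ⧸ J := aeval fun i => Ideal.Quotient.mk J (π (X i))
  constructor
  · intro hn
    refine (flat_localized_iff _ _).2 fun a ha x hx => ?_
    have hD : ∀ x : G h ⊗[B ⧸ J] a, ∃ D, ∀ D' ≥ D,
        x = ∑ n ∈ Finset.range D', (inclG h n).rTensor a ((projG h n).rTensor a x) := by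
      intro x
      induction x with
      | zero => exact ⟨0, fun _ _ => by simp⟩
      | add x y hx hy =>
        obtain ⟨D₁, h₁⟩ := hx
        obtain ⟨D₂, h₂⟩ := hy
        refine ⟨max D₁ D₂, fun D hD => ?_⟩
        simp only [map_add, Finset.sum_add_distrib, ← h₁ D (le_of_max_le_left hD),
          ← h₂ D (le_of_max_le_right hD)]
      | tmul g c =>
        obtain ⟨D, hD⟩ := h.exists_decomp g
        refine ⟨D, fun D' hD' => ?_⟩
        simp only [LinearMap.rTensor_tmul, ← TensorProduct.sum_tmul, ← hD D' hD']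
    obtain ⟨D, hD⟩ := hD x
    have ht : ∀ n, ∃ t ∈ qbar.primeCompl, t • (projG h n).rTensor a x = 0 := fun n =>
      (flat_localized_iff _ _).1 (hn n) a ha _ (by
        rw [← LinearMap.comp_apply, LinearMap.lTensor_comp_rTensor, ← LinearMap.rTensor_comp_lTensor,
          LinearMap.comp_apply, hx, map_zero])
    choose t ht hxt using ht
    refine ⟨algebraMap (B ⧸ J) S (∏ n ∈ Finset.range D, t n),
      (by
        show ev _ ∉ qbar
        rw [AlgHom.commutes, Algebra.algebraMap_self_apply]
        exact prod_mem (S := qbar.primeCompl) fun n _ => ht n), ?_⟩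
    rw [algebraMap_smul, hD D le_rfl, Finset.smul_sum]
    refine Finset.sum_eq_zero fun n hn => ?_
    obtain ⟨c, hc⟩ := Finset.dvd_prod_of_mem t hn
    rw [← map_smul, hc, mul_comm, mul_smul, hxt, smul_zero, map_zero]
  · intro hG n
    refine (flat_localized_iff _ _).2 fun a ha x hx => ?_
    obtain ⟨s, hs, hsx⟩ := (flat_localized_iff _ _).1 hG a ha ((inclG h n).rTensor a x) (by
      rw [← LinearMap.comp_apply, LinearMap.lTensor_comp_rTensor, ← LinearMap.rTensor_comp_lTensor,
        LinearMap.comp_apply, hx, map_zero])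
    refine ⟨ev s, hs, ?_⟩
    have key : ∀ x : Gr J M n ⊗[B ⧸ J] a,
        (projG h n).rTensor a (s • (inclG h n).rTensor a x) = ev s • x := by
      intro x
      induction x with
      | zero => simp
      | add x y hx hy => rw [map_add, smul_add, map_add, hx, hy, smul_add]
      | tmul y c =>
        rw [LinearMap.rTensor_tmul, smul_tmul', LinearMap.rTensor_tmul,
          h.projG_smul n s (h.inclG_mem n y), h.projG_inclG, smul_tmul']
    rw [← key, hsx, map_zero]

theorem isOpen_pieces_flat (hL : (ini h).FG) :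
    IsOpen {qbar : PrimeSpectrum (B ⧸ J) | ∀ n, FlatCA.FlatAt (B ⧸ J) qbar.asIdeal (Gr J M n)} := by
  haveI := h.finitePresentation_G hL
  let ev : MvPolynomial (Fin N) (B ⧸ J) →ₐ[B ⧸ J] B ⧸ J := aeval fun i => Ideal.Quotient.mk J (π (X i))
  have hopen := (FlatOpen.isOpen_flatLocus (B ⧸ J) (MvPolynomial (Fin N) (B ⧸ J)) (G h)).preimage
    (PrimeSpectrum.continuous_comap ev.toRingHom)
  convert hopen using 1
  ext qbar
  exact h.flat_iff qbar.asIdeal

end IsWtPres

end Groth.Agent.Fibres16.NormFlat
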