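import Groth.Agent.FlatOpen.Presented
import Groth.Agent.LocFlat.Basic
import Groth.Agent.FlatMor.FlatLemmas
import Mathlib.RingTheory.MvPolynomial.WeightedHomogeneous

/-!
# The weight filtration of a free module over a polynomial ring

Some of the variables of `R[x₁..x_N]` have weight `1`, the others weight `0`; `fil w R m` is the submodule
`I^m • R[x]^r` for the ideal `I` of the variables of weight `1`.

* `mem_fil_iff`, `cmp`, `cmp_smul`: homogeneous components.
* `ext_fil`: the filtration commutes with base change.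
* `ext_inf_of_flat`: base change commutes with the intersection of two submodules with flat join-cokernel.
-/

set_option autoImplicit false
set_option linter.style.haveILetI false

universe u

open TensorProduct Function MvPolynomial

namespace Groth.Agent.Fibres16.NormFlat

open Groth.Agent.FlatOpen (Vec Quot mapVec mapVec_apply mapVec_smul mapVec_mem_ext ext_mono ext_span vecEquiv vecEquiv_tmul
  vecEquiv_range_baseChange)

variable {N r : ℕ} (w : Fin N → ℕ)

/-- The ideal generated by the variables of positive weight. -/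
noncomputable def idl (R : Type u) [CommRing R] : Ideal (MvPolynomial (Fin N) R) :=
  Ideal.span (MvPolynomial.X '' {i | w i ≠ 0})

/-- The weight filtration. -/
noncomputable def fil (R : Type u) [CommRing R] (m : ℕ) :
    Submodule (MvPolynomial (Fin N) R) (Vec N r R) :=
  idl w R ^ m • ⊤

variable {w} {R : Type u} [CommRing R]

theorem coeff_of_mem_idl_pow {m : ℕ} {p : MvPolynomial (Fin N) R} (hp : p ∈ idl w R ^ m)
    (s : Fin N →₀ ℕ) (hs : Finsupp.weight w s < m) : coeff s p = 0 := by
  induction m generalizing p s with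
  | zero => exact absurd hs (Nat.not_lt_zero _)
  | succ m ih =>
    rw [pow_succ] at hp
    refine Submodule.mul_induction_on (C := fun p => ∀ s, Finsupp.weight w s < m + 1 → coeff s p = 0) hp
      (fun a ha b hb => ?_) (fun a b ha hb s hs => by rw [coeff_add, ha s hs, hb s hs, add_zero]) s hs
    clear hs s hp
    induction hb using Submodule.span_induction generalizing a with
    | mem b hb =>
      obtain ⟨i, hi, rfl⟩ := hb
      intro s hs
      classical
      rw [coeff_mul_X']
      split_ifs with h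
      · refine ih ha _ ?_
        have hle : Finsupp.single i 1 ≤ s :=
          Finsupp.single_le_iff.2 (Nat.one_le_iff_ne_zero.2 (Finsupp.mem_support_iff.1 h))
        have := congrArg (Finsupp.weight w) (tsub_add_cancel_of_le hle)
        rw [map_add, Finsupp.weight_single, one_smul] at this
        have hi' : w i ≠ 0 := hi
        omega
      · rfl
    | zero => intro s _; rw [mul_zero, coeff_zero]
    | add b c _ _ hb hc => intro s hs; rw [mul_add, coeff_add, hb a ha s hs, hc a ha s hs, add_zero]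
    | smul c b _ hb =>
      intro s hs
      rw [smul_eq_mul, ← mul_assoc]
      exact hb _ (Ideal.mul_mem_right _ _ ha) s hs

theorem monomial_mem_idl_pow (hw : ∀ i, w i ≤ 1) (s : Fin N →₀ ℕ) (c : R) :
    monomial s c ∈ idl w R ^ Finsupp.weight w s := by
  rw [show monomial s c = C c * monomial s 1 by rw [C_mul_monomial, mul_one]]
  refine Ideal.mul_mem_left _ _ ?_
  induction s using Finsupp.induction with
  | zero => simp
  | single_add i b s _ _ ih =>
    have h1 : monomial (Finsupp.single i b) (1 : R) ∈ idl w R ^ Finsupp.weight w (Finsupp.single i b) := by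
      rw [Finsupp.weight_single, ← X_pow_eq_monomial, smul_eq_mul]
      rcases Nat.le_one_iff_eq_zero_or_eq_one.1 (hw i) with h | h
      · rw [h, mul_zero, pow_zero, Ideal.one_eq_top]
        exact Submodule.mem_top
      · rw [h, mul_one]
        exact Ideal.pow_mem_pow (Ideal.subset_span (Set.mem_image_of_mem _ (show w i ≠ 0 by omega))) _
    have h2 := Ideal.mul_mem_mul h1 ih
    rwa [← pow_add, ← map_add, monomial_mul, one_mul] at h2

theorem mem_idl_pow_iff (hw : ∀ i, w i ≤ 1) {m : ℕ} {p : MvPolynomial (Fin N) R} :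
    p ∈ idl w R ^ m ↔ ∀ s, Finsupp.weight w s < m → coeff s p = 0 := by
  refine ⟨fun hp => coeff_of_mem_idl_pow hp, fun h => ?_⟩
  rw [as_sum p]
  refine sum_mem fun s hs => ?_
  exact Ideal.pow_le_pow_right (not_lt.1 fun hlt => (mem_support_iff.1 hs) (h s hlt))
    (monomial_mem_idl_pow hw s _)

theorem mem_smul_top_pi {R : Type u} [CommRing R] {I : Ideal R} {v : Fin r → R} :
    v ∈ I • (⊤ : Submodule R (Fin r → R)) ↔ ∀ i, v i ∈ I := by
  constructor
  · intro hv i
    refine Submodule.smul_induction_on (p := fun v => v i ∈ I) hv (fun a ha z _ => ?_)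
      (fun a b ha hb => I.add_mem ha hb)
    exact Ideal.mul_mem_right _ _ ha
  · intro h
    rw [show v = ∑ i, v i • Pi.single i (1 : R) from by
      funext j; simp [Finset.sum_apply, Pi.single_apply]]
    exact sum_mem fun i _ => Submodule.smul_mem_smul (h i) Submodule.mem_top

theorem mem_fil_iff (hw : ∀ i, w i ≤ 1) {m : ℕ} {v : Vec N r R} :
    v ∈ fil w R m ↔ ∀ i s, Finsupp.weight w s < m → coeff s (v i) = 0 := by
  rw [fil, mem_smul_top_pi]
  simp only [mem_idl_pow_iff hw]

theorem fil_antitone {m m' : ℕ} (h : m ≤ m') : (fil w R m' : Submodule _ (Vec N r R)) ≤ fil w R m :=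
  Submodule.smul_mono_left (Ideal.pow_le_pow_right h)

theorem fil_zero : (fil w R 0 : Submodule _ (Vec N r R)) = ⊤ := by
  rw [fil, pow_zero, Ideal.one_eq_top, Submodule.top_smul]

theorem smul_mem_fil {a m : ℕ} {p : MvPolynomial (Fin N) R} (hp : p ∈ idl w R ^ a) {v : Vec N r R}
    (hv : v ∈ fil w R m) : p • v ∈ fil w R (a + m) := by
  rw [fil, pow_add, Submodule.mul_smul]
  exact Submodule.smul_mem_smul hp hv

theorem idl_smul_fil_le (m : ℕ) :
    idl w R • (fil w R m : Submodule _ (Vec N r R)) ≤ fil w R (m + 1) := by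
  rw [fil, fil, pow_succ', Submodule.mul_smul]

variable (w) in
/-- The homogeneous component of weight `d`. -/
noncomputable def cmp (d : ℕ) : Vec N r R →ₗ[R] Vec N r R :=
  LinearMap.pi fun i => weightedHomogeneousComponent w d ∘ₗ LinearMap.proj i

theorem cmp_apply (d : ℕ) (v : Vec N r R) (i : Fin r) :
    cmp w d v i = weightedHomogeneousComponent w d (v i) := rfl

theorem coeff_cmp (d : ℕ) (v : Vec N r R) (i : Fin r) (s : Fin N →₀ ℕ) :
    coeff s (cmp w d v i) = if Finsupp.weight w s = d then coeff s (v i) else 0 := by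
  rw [cmp_apply, coeff_weightedHomogeneousComponent]

variable (hw : ∀ i, w i ≤ 1)
include hw

theorem cmp_mem (d : ℕ) (v : Vec N r R) : cmp w d v ∈ fil w R d :=
  (mem_fil_iff hw).2 fun i s hs => by rw [coeff_cmp, if_neg hs.ne]

theorem cmp_eq_zero {d m : ℕ} {v : Vec N r R} (hv : v ∈ fil w R m) (hd : d < m) : cmp w d v = 0 := by
  funext i
  refine MvPolynomial.ext _ _ fun s => ?_
  rw [coeff_cmp, Pi.zero_apply, coeff_zero]
  split_ifs with h
  · exact (mem_fil_iff hw).1 hv i s (h ▸ hd)
  · rfl

theorem sub_cmp_mem {m : ℕ} {v : Vec N r R} (hv : v ∈ fil w R m) :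
    v - cmp w m v ∈ fil w R (m + 1) := by
  refine (mem_fil_iff hw).2 fun i s hs => ?_
  rw [Pi.sub_apply, coeff_sub, coeff_cmp]
  split_ifs with h
  · exact sub_self _
  · rw [sub_zero]
    exact (mem_fil_iff hw).1 hv i s (by omega)

theorem cmp_smul {a k : ℕ} {p : MvPolynomial (Fin N) R} (hp : p ∈ idl w R ^ a) {z : Vec N r R}
    (hz : z ∈ fil w R k) :
    cmp w (a + k) (p • z) = weightedHomogeneousComponent w a p • cmp w k z := by
  set q := weightedHomogeneousComponent w a p
  have hp' : p - q ∈ idl w R ^ (a + 1) := by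
    refine (mem_idl_pow_iff hw).2 fun s hs => ?_
    rw [coeff_sub, coeff_weightedHomogeneousComponent]
    split_ifs with h
    · exact sub_self _
    · rw [sub_zero]
      exact (mem_idl_pow_iff hw).1 hp s (by omega)
  have hq : q ∈ idl w R ^ a := (mem_idl_pow_iff hw).2 fun s hs => by
    rw [coeff_weightedHomogeneousComponent, if_neg hs.ne]
  have hrest : p • z - q • cmp w k z ∈ fil w R (a + k + 1) := by
    rw [show p • z - q • cmp w k z = (p - q) • z + q • (z - cmp w k z) by
      rw [sub_smul, smul_sub]; abel]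
    refine add_mem (fil_antitone (by omega) (smul_mem_fil hp' hz)) ?_
    exact fil_antitone (by omega) (smul_mem_fil hq (sub_cmp_mem hw hz))
  have h0 := cmp_eq_zero hw hrest (Nat.lt_succ_self _)
  rw [map_sub, sub_eq_zero] at h0
  rw [h0]
  funext i
  rw [cmp_apply, Pi.smul_apply, smul_eq_mul, cmp_apply]
  exact ((weightedHomogeneousComponent_isWeightedHomogeneous a p).mul
    (weightedHomogeneousComponent_isWeightedHomogeneous k (z i))).weightedHomogeneousComponent_same

omit hw in
theorem cmp_cmp (d e : ℕ) (v : Vec N r R) :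
    cmp w d (cmp w e v) = if d = e then cmp w e v else 0 := by
  funext i
  refine MvPolynomial.ext _ _ fun s => ?_
  rw [coeff_cmp, coeff_cmp]
  split_ifs with h1 h2 h3
  all_goals simp_all [coeff_cmp]

theorem sub_sum_cmp_mem (D : ℕ) (v : Vec N r R) :
    v - ∑ d ∈ Finset.range D, cmp w d v ∈ fil w R D := by
  refine (mem_fil_iff hw).2 fun i s hs => ?_
  rw [Pi.sub_apply, Finset.sum_apply, coeff_sub, coeff_sum]
  simp only [coeff_cmp]
  rw [Finset.sum_ite_eq, if_pos (Finset.mem_range.2 hs), sub_self]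

omit hw in
theorem exists_sum_cmp_eq (v : Vec N r R) : ∃ D, v = ∑ d ∈ Finset.range D, cmp w d v := by
  classical
  refine ⟨(Finset.univ.biUnion fun i => (v i).support.image (Finsupp.weight w)).sup id + 1, ?_⟩
  set D := (Finset.univ.biUnion fun i => (v i).support.image (Finsupp.weight w)).sup id + 1
  rw [← sub_eq_zero]
  funext i
  refine MvPolynomial.ext _ _ fun s => ?_
  rw [Pi.sub_apply, Finset.sum_apply, coeff_sub, coeff_sum, Pi.zero_apply, coeff_zero]
  simp only [coeff_cmp]
  rw [Finset.sum_ite_eq]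
  split_ifs with h
  · exact sub_self _
  · rw [sub_zero]
    by_contra hne
    refine h (Finset.mem_range.2 (Nat.lt_succ_of_le ?_))
    exact Finset.le_sup (f := id) (Finset.mem_biUnion.2
      ⟨i, Finset.mem_univ i, Finset.mem_image_of_mem _ (mem_support_iff.2 hne)⟩)

theorem flat_quot_fil (m : ℕ) : Module.Flat R (Vec N r R ⧸ fil w R m) := by
  let σ : Vec N r R →ₗ[R] Vec N r R := ∑ d ∈ Finset.range m, cmp w d
  have hσ : (fil w R m : Submodule _ (Vec N r R)).restrictScalars R ≤ LinearMap.ker σ := fun v hv => by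
    rw [LinearMap.mem_ker, LinearMap.sum_apply]
    exact Finset.sum_eq_zero fun d hd => cmp_eq_zero hw hv (Finset.mem_range.1 hd)
  let σ' : (Vec N r R ⧸ fil w R m) →ₗ[R] Vec N r R :=
    (Submodule.liftQ _ σ hσ) ∘ₗ (Submodule.Quotient.restrictScalarsEquiv R (fil w R m)).symm.toLinearMap
  refine Module.Flat.of_retract σ' ((fil w R m).mkQ.restrictScalars R) ?_
  refine LinearMap.ext fun y => ?_
  obtain ⟨v, rfl⟩ := Submodule.Quotient.mk_surjective _ y
  show Submodule.Quotient.mk (σ v) = Submodule.Quotient.mk v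
  rw [eq_comm, Submodule.Quotient.eq, LinearMap.sum_apply]
  exact sub_sum_cmp_mem hw m v

omit hw

variable {R₀ : Type u} [CommRing R₀] (R) [Algebra R₀ R]

theorem mapVec_cmp (d : ℕ) (v : Vec N r R₀) : mapVec R (cmp w d v) = cmp w d (mapVec R v) := by
  funext i
  refine MvPolynomial.ext _ _ fun s => ?_
  simp only [mapVec_apply, coeff_map, coeff_cmp]
  split_ifs <;> simp

theorem map_idl : (idl w R₀).map (MvPolynomial.map (algebraMap R₀ R)) = idl w R := by
  rw [idl, idl, Ideal.map_span, Set.image_image]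
  simp

theorem ext_top : FlatOpen.ext R (⊤ : Submodule (MvPolynomial (Fin N) R₀) (Vec N r R₀)) = ⊤ := by
  refine eq_top_iff.2 fun v _ => ?_
  rw [show v = ∑ i, v i • Pi.single i (1 : MvPolynomial (Fin N) R) from by
    funext j; simp [Finset.sum_apply, Pi.single_apply]]
  refine sum_mem fun i _ => Submodule.smul_mem _ _ ?_
  have h1 : mapVec R (Pi.single i (1 : MvPolynomial (Fin N) R₀)) = Pi.single i 1 := by
    funext j
    by_cases hj : j = i
    · subst hj; simp
    · simp [hj]
  exact h1 ▸ mapVec_mem_ext R ⊤ Submodule.mem_top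

theorem ext_smul (I : Ideal (MvPolynomial (Fin N) R₀))
    (Z : Submodule (MvPolynomial (Fin N) R₀) (Vec N r R₀)) :
    FlatOpen.ext R (I • Z) = I.map (MvPolynomial.map (algebraMap R₀ R)) • FlatOpen.ext R Z := by
  apply le_antisymm
  · refine Submodule.span_le.2 ?_
    rintro - ⟨v, hv, rfl⟩
    refine Submodule.smul_induction_on (p := fun v => mapVec R v ∈ _) hv (fun a ha z hz => ?_)
      (fun a b ha hb => by rw [map_add]; exact add_mem ha hb)
    rw [mapVec_smul]
    exact Submodule.smul_mem_smul (Ideal.mem_map_of_mem _ ha) (mapVec_mem_ext R Z hz)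
  · rw [Ideal.map, FlatOpen.ext, Submodule.span_smul_span, Submodule.span_le]
    rintro - ⟨-, ⟨a, ha, rfl⟩, -, ⟨z, hz, rfl⟩, rfl⟩
    show _ • _ ∈ _
    rw [← mapVec_smul]
    exact mapVec_mem_ext R _ (Submodule.smul_mem_smul ha hz)

theorem ext_fil (m : ℕ) : FlatOpen.ext R (fil w R₀ m : Submodule _ (Vec N r R₀)) = fil w R m := by
  rw [fil, fil, ext_smul, ext_top, Ideal.map_pow, map_idl]

theorem ext_sup (Z W : Submodule (MvPolynomial (Fin N) R₀) (Vec N r R₀)) :
    FlatOpen.ext R (Z ⊔ W) = FlatOpen.ext R Z ⊔ FlatOpen.ext R W := by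
  conv_lhs => rw [← Submodule.span_eq Z, ← Submodule.span_eq W, ← Submodule.span_union]
  rw [ext_span, Set.image_union, Submodule.span_union]
  rfl

/-- Base change commutes with intersection if the cokernel of the join is flat. -/
theorem ext_inf_of_flat (Z W : Submodule (MvPolynomial (Fin N) R₀) (Vec N r R₀))
    [Module.Flat R₀ (Vec N r R₀ ⧸ (Z ⊔ W))] : FlatOpen.ext R Z ⊓ FlatOpen.ext R W = FlatOpen.ext R (Z ⊓ W) := by
  refine le_antisymm ?_ (le_inf (ext_mono R inf_le_left) (ext_mono R inf_le_right))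
  intro v hv
  let ι : Z →ₗ[R₀] (Vec N r R₀ ⧸ W) := (W.mkQ ∘ₗ Z.subtype).restrictScalars R₀
  let φ : (Vec N r R₀ ⧸ W) →ₗ[R₀] (Vec N r R₀ ⧸ (Z ⊔ W)) :=
    (Submodule.factor le_sup_right).restrictScalars R₀
  have hex : Exact (LinearMap.range ι).subtype φ := by
    intro y
    obtain ⟨y, rfl⟩ := Submodule.Quotient.mk_surjective _ y
    rw [show φ (Submodule.Quotient.mk y) = Submodule.Quotient.mk y from rfl,
      Submodule.Quotient.mk_eq_zero, Submodule.mem_sup]
    constructor
    · rintro ⟨z, hz, t, ht, rfl⟩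
      refine ⟨⟨ι ⟨z, hz⟩, ⟨_, rfl⟩⟩, ?_⟩
      show (Submodule.Quotient.mk z : Vec N r R₀ ⧸ W) = _
      rw [Submodule.Quotient.eq]
      simpa using W.neg_mem ht
    · rintro ⟨⟨-, ⟨z, rfl⟩⟩, hzy⟩
      refine ⟨z, z.2, y - z, ?_, add_sub_cancel _ _⟩
      rw [← Submodule.Quotient.eq]
      exact hzy.symm
  have hinj := LocFlat.lTensor_injective_of_flat_coker (LinearMap.range ι).subtype φ hex
    (Submodule.factor_surjective le_sup_right) (Submodule.injective_subtype _) R
  have hvZ : v ∈ (FlatOpen.ext R Z).restrictScalars R := hv.1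
  rw [← vecEquiv_range_baseChange] at hvZ
  obtain ⟨z, rfl⟩ := hvZ
  have hz0 : ι.lTensor R z = 0 := by
    have hvW : (vecEquiv R).toLinearMap ((Z.subtype.restrictScalars R₀).baseChange R z) ∈
        (FlatOpen.ext R W).restrictScalars R := hv.2
    rw [← vecEquiv_range_baseChange] at hvW
    obtain ⟨t, ht⟩ := hvW
    have ht' : (W.subtype.restrictScalars R₀).lTensor R t = (Z.subtype.restrictScalars R₀).lTensor R z :=
      (vecEquiv R).injective ht
    show ((W.mkQ.restrictScalars R₀) ∘ₗ (Z.subtype.restrictScalars R₀)).lTensor R z = 0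
    rw [LinearMap.lTensor_comp, LinearMap.comp_apply, ← ht', ← LinearMap.comp_apply,
      ← LinearMap.lTensor_comp]
    have : (W.mkQ.restrictScalars R₀) ∘ₗ (W.subtype.restrictScalars R₀) = 0 :=
      LinearMap.ext fun x => (Submodule.Quotient.mk_eq_zero _).2 x.2
    rw [this, LinearMap.lTensor_zero, LinearMap.zero_apply]
  have hz1 : ι.rangeRestrict.lTensor R z = 0 := by
    refine hinj ?_
    rw [map_zero, ← LinearMap.comp_apply, ← LinearMap.lTensor_comp,
      show (LinearMap.range ι).subtype ∘ₗ ι.rangeRestrict = ι from rfl, hz0]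
  obtain ⟨y, rfl⟩ := (lTensor_exact (M := ↥(LinearMap.ker ι.rangeRestrict)) R
    (f := (LinearMap.ker ι.rangeRestrict).subtype) (g := ι.rangeRestrict)
    (LinearMap.exact_subtype_ker_map ι.rangeRestrict)
    ι.surjective_rangeRestrict z).1 hz1
  clear hz0 hz1 hv
  induction y with
  | zero => simp
  | add a b ha hb => simp only [map_add]; exact add_mem ha hb
  | tmul c k =>
    simp only [LinearMap.lTensor_tmul, LinearMap.comp_apply, LinearMap.baseChange_tmul,
      LinearEquiv.coe_coe, vecEquiv_tmul]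
    refine Submodule.smul_of_tower_mem _ c (mapVec_mem_ext R _ ⟨k.1.2, ?_⟩)
    have hk : ι.rangeRestrict k.1 = 0 := k.2
    have h := congrArg Subtype.val hk
    exact (Submodule.Quotient.mk_eq_zero W).1 h

/-- The quotient by an intersection is flat. -/
theorem flat_quot_inf {P F : Type u} [CommRing P] [AddCommGroup F] [Module P F] {R : Type u}
    [CommRing R] [Algebra R P] [Module R F] [IsScalarTower R P F] (U V : Submodule P F)
    [Module.Flat R (F ⧸ U)] [Module.Flat R (F ⧸ V)] [Module.Flat R (F ⧸ (U ⊔ V))] :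
    Module.Flat R (F ⧸ (U ⊓ V)) := by
  let d : (F ⧸ U) × (F ⧸ V) →ₗ[R] F ⧸ (U ⊔ V) :=
    ((Submodule.factor (le_sup_left : U ≤ U ⊔ V)).comp (LinearMap.fst P _ _) -
      (Submodule.factor (le_sup_right : V ≤ U ⊔ V)).comp (LinearMap.snd P _ _)).restrictScalars R
  let φ : (F ⧸ (U ⊓ V)) →ₗ[R] (F ⧸ U) × (F ⧸ V) :=
    ((Submodule.factor (inf_le_left : U ⊓ V ≤ U)).prod (Submodule.factor (inf_le_right : U ⊓ V ≤ V))).restrictScalars R
  have hd : Surjective d := fun y => by
    obtain ⟨y, rfl⟩ := Submodule.Quotient.mk_surjective _ y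
    exact ⟨(Submodule.Quotient.mk y, 0), by simp [d]⟩
  have hφ : Injective φ := by
    rw [injective_iff_map_eq_zero]
    intro y hy
    obtain ⟨y, rfl⟩ := Submodule.Quotient.mk_surjective _ y
    rw [Submodule.Quotient.mk_eq_zero]
    exact ⟨(Submodule.Quotient.mk_eq_zero U).1 (congrArg Prod.fst hy),
      (Submodule.Quotient.mk_eq_zero V).1 (congrArg Prod.snd hy)⟩
  have hr : LinearMap.range φ = LinearMap.ker d := by
    apply le_antisymm
    · rintro - ⟨y, rfl⟩
      obtain ⟨y, rfl⟩ := Submodule.Quotient.mk_surjective _ y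
      simp [d, φ]
    · rintro ⟨a, b⟩ hab
      obtain ⟨a, rfl⟩ := Submodule.Quotient.mk_surjective _ a
      obtain ⟨b, rfl⟩ := Submodule.Quotient.mk_surjective _ b
      have : a - b ∈ U ⊔ V := (Submodule.Quotient.eq _).1 (sub_eq_zero.1 (by simpa [d] using hab))
      obtain ⟨x, hx, y, hy, hxy⟩ := Submodule.mem_sup.1 this
      refine ⟨Submodule.Quotient.mk (a - x), Prod.ext ?_ ?_⟩
      · exact (Submodule.Quotient.eq U).2 (by simpa using U.neg_mem hx)
      · refine (Submodule.Quotient.eq V).2 ?_
        rw [LinearMap.id_apply, show a - x - b = y by rw [eq_sub_of_add_eq' hxy]; abel]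
        exact hy
  haveI := FlatMor.FlatLemmas.flat_prod (R := R) (M := F ⧸ U) (N := F ⧸ V)
  haveI := FlatMor.FlatLemmas.flat_ker d hd
  exact Module.Flat.of_linearEquiv ((LinearEquiv.ofInjective φ hφ).trans (LinearEquiv.ofEq _ _ hr))

end Groth.Agent.Fibres16.NormFlat
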