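import Groth.Agent.Fibres16.NormFlat.Basic
import Groth.Agent.Fibres16.FlatIdeal
import Groth.Agent.FlatSect.Along
import Groth.Agent.FlatOpen.Descend
import Groth.Agent.FlatOpen.GenFreeDomain

/-!
# A degree bound for initial submodules

`GrFlat w Z`: all `R[x]^r ⧸ (Z + fil m)` are flat; `Bounded w c Z`: the initial module of `Z` is generated
in weight `≤ c`.

* `exists_bound_fields`: over a Noetherian ring the bound is uniform over all field-valued points.
* `exists_bounded`, `fg_inf_fil`: under `GrFlat` the bound holds over any ring.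
-/

set_option autoImplicit false
set_option linter.style.haveILetI false

universe u

open TensorProduct Function MvPolynomial

namespace Groth.Agent.Fibres16.NormFlat

open Groth.Agent.FlatOpen (Vec Quot mapVec mapVec_apply mapVec_smul mapVec_mem_ext ext_mono ext_span
  quotEquiv ext_ext vecEquiv vecEquiv_tmul)

variable {N r : ℕ} (w : Fin N → ℕ)

/-- All truncations are flat. -/
def GrFlat {R : Type u} [CommRing R] (Z : Submodule (MvPolynomial (Fin N) R) (Vec N r R)) : Prop :=
  ∀ m : ℕ, Module.Flat R (Vec N r R ⧸ (Z ⊔ fil w R m))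

/-- The initial submodule is generated in weight `≤ c`. -/
def Bounded {R : Type u} [CommRing R] (c : ℕ) (Z : Submodule (MvPolynomial (Fin N) R) (Vec N r R)) :
    Prop :=
  ∀ n, c ≤ n → Z ⊓ fil w R (n + 1) ≤ idl w R • (Z ⊓ fil w R n) ⊔ fil w R (n + 2)

variable {w} {R₀ : Type u} [CommRing R₀] {R : Type u} [CommRing R]

theorem Bounded.mono {c c' : ℕ} (h : c ≤ c')
    {Z : Submodule (MvPolynomial (Fin N) R) (Vec N r R)} (hZ : Bounded w c Z) : Bounded w c' Z :=
  fun n hn => hZ n (h.trans hn)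

theorem inf_fil_ext [Algebra R₀ R] {Z : Submodule (MvPolynomial (Fin N) R₀) (Vec N r R₀)} (m : ℕ)
    [Module.Flat R₀ (Vec N r R₀ ⧸ (Z ⊔ fil w R₀ m))] :
    FlatOpen.ext R Z ⊓ fil w R m = FlatOpen.ext R (Z ⊓ fil w R₀ m) := by
  rw [← ext_fil (R₀ := R₀) R m, ext_inf_of_flat]

theorem exists_bounded_of_noetherian [IsNoetherianRing R]
    (Z : Submodule (MvPolynomial (Fin N) R) (Vec N r R)) : ∃ c, Bounded w c Z := by
  obtain ⟨k, hk⟩ := (idl w R).exists_pow_inf_eq_pow_smul Z
  refine ⟨k, fun n hn => le_sup_of_le_left (le_of_eq ?_)⟩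
  rw [inf_comm, fil, hk (n + 1) (by omega), inf_comm Z, fil, hk n hn, ← Submodule.mul_smul, ← pow_succ',
    show n + 1 - k = n - k + 1 by omega]

theorem Bounded.ext [Algebra R₀ R] {c : ℕ} {Z : Submodule (MvPolynomial (Fin N) R₀) (Vec N r R₀)}
    (hflat : GrFlat w Z) (hZ : Bounded w c Z) : Bounded w c (FlatOpen.ext R Z) := by
  intro n hn
  haveI := hflat (n + 1)
  haveI := hflat n
  rw [inf_fil_ext, inf_fil_ext]
  refine (ext_mono R (hZ n hn)).trans_eq ?_
  rw [ext_sup, ext_smul, map_idl, ext_fil]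

/-- Generic flatness of all truncations. -/
theorem exists_away_grFlat {D : Type u} [CommRing D] [IsDomain D] [IsNoetherianRing D]
    (Z : Submodule (MvPolynomial (Fin N) D) (Vec N r D)) :
    ∃ f : D, f ≠ 0 ∧ GrFlat w (FlatOpen.ext (Localization.Away f) Z) := by
  let P := MvPolynomial (Fin N) D
  let M := Vec N r D ⧸ Z
  let I := idl w D
  haveI : Algebra.FiniteType D (P ⧸ I) :=
    Algebra.FiniteType.of_surjective (Ideal.Quotient.mkₐ D I) (Ideal.Quotient.mkₐ_surjective D I)
  obtain ⟨Q, _, _, _, _, f, hf, hfree, hret⟩ := FlatSect.exists_freeAt_retract (R := D) (M := M) I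
  refine ⟨f, hf, fun m => ?_⟩
  let R' := Localization.Away f
  haveI : Module.Free R' (R' ⊗[D] Q) := hfree.free_tensor
  have hpiece : ∀ n, Module.Flat R' (R' ⊗[D] FlatSect.piece I M n) := fun n => by
    obtain ⟨ι, π, hπι⟩ := hret n
    refine Module.Flat.of_retract ((ι.restrictScalars D).baseChange R') ((π.restrictScalars D).baseChange R') ?_
    rw [← LinearMap.baseChange_comp,
      show (π.restrictScalars D) ∘ₗ (ι.restrictScalars D) = LinearMap.id from
        LinearMap.ext fun x => LinearMap.congr_fun hπι x, LinearMap.baseChange_id]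
  haveI : Module.Flat D R' := IsLocalization.flat R' (Submonoid.powers f)
  have hM : ∀ k, Module.Flat R' (R' ⊗[D] (M ⧸ (I ^ k • ⊤ : Submodule P M))) := by
    intro k
    induction k with
    | zero =>
      haveI : Subsingleton (M ⧸ (I ^ 0 • ⊤ : Submodule P M)) := by
        rw [Submodule.Quotient.subsingleton_iff, pow_zero, Ideal.one_eq_top, Submodule.top_smul]
      infer_instance
    | succ k ih =>
      have hle : (I ^ (k + 1) • ⊤ : Submodule P M) ≤ I ^ k • ⊤ :=
        Submodule.smul_mono_left (Ideal.pow_le_pow_right (Nat.le_succ k))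
      let a : FlatSect.piece I M k →ₗ[P] M ⧸ (I ^ (k + 1) • ⊤ : Submodule P M) :=
        Submodule.mapQ _ _ (Submodule.subtype _) le_rfl
      let b : (M ⧸ (I ^ (k + 1) • ⊤ : Submodule P M)) →ₗ[P] M ⧸ (I ^ k • ⊤ : Submodule P M) :=
        Submodule.factor hle
      have ha : Injective (a.restrictScalars D) := by
        show Injective a
        rw [← LinearMap.ker_eq_bot, Submodule.ker_mapQ, Submodule.mkQ_map_self]
      have hb : Surjective (b.restrictScalars D) := Submodule.factor_surjective hle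
      have hab : Exact (a.restrictScalars D) (b.restrictScalars D) := fun z => by
        obtain ⟨x, rfl⟩ := Submodule.Quotient.mk_surjective _ z
        constructor
        · intro hx
          exact ⟨Submodule.Quotient.mk ⟨x, (Submodule.Quotient.mk_eq_zero _).mp hx⟩, rfl⟩
        · rintro ⟨y, hy⟩
          obtain ⟨y, rfl⟩ := Submodule.Quotient.mk_surjective _ y
          rw [← hy]
          exact (Submodule.Quotient.mk_eq_zero _).mpr y.2
      haveI := hpiece k
      haveI := ih
      exact FlatSect.flat_of_ext ((a.restrictScalars D).baseChange R') ((b.restrictScalars D).baseChange R')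
        (lTensor_exact R' hab hb) (LinearMap.lTensor_surjective R' hb)
        (Module.Flat.lTensor_preserves_injective_linearMap (a.restrictScalars D) ha)
  let e : (M ⧸ (I ^ m • ⊤ : Submodule P M)) ≃ₗ[P] Vec N r D ⧸ (Z ⊔ fil w D m) :=
    (Submodule.quotEquivOfEq _ _ (by rw [fil, Submodule.map_smul'', Submodule.map_top, Submodule.range_mkQ])).trans
      (Submodule.quotientQuotientEquivQuotientSup Z (fil w D m))
  haveI := hM m
  haveI : Module.Flat R' (R' ⊗[D] (Vec N r D ⧸ (Z ⊔ fil w D m))) := Module.Flat.of_linearEquiv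
    (TensorProduct.AlgebraTensorModule.congr (LinearEquiv.refl R' R') (e.restrictScalars D)).symm
  have h := Module.Flat.of_linearEquiv (quotEquiv R' (Z ⊔ fil w D m)).symm
  exact Module.Flat.of_linearEquiv ((Submodule.quotEquivOfEq _ _
    (show FlatOpen.ext R' (Z ⊔ fil w D m) = FlatOpen.ext R' Z ⊔ fil w R' m by
      rw [ext_sup, ext_fil])).restrictScalars R').symm

/-- A uniform bound for all field valued points of a Noetherian ring. -/
theorem exists_bound_fields [IsNoetherianRing R₀]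
    (Z₀ : Submodule (MvPolynomial (Fin N) R₀) (Vec N r R₀)) :
    ∃ c, ∀ (κ : Type u) [Field κ] [Algebra R₀ κ], Bounded w c (FlatOpen.ext κ Z₀) := by
  suffices h : ∀ I : Ideal R₀, ∃ c, ∀ (κ : Type u) [Field κ] [Algebra R₀ κ],
      (∀ x ∈ I, algebraMap R₀ κ x = 0) → Bounded w c (FlatOpen.ext κ Z₀) by
    obtain ⟨c, hc⟩ := h ⊥
    exact ⟨c, fun κ _ _ => hc κ fun x hx => by rw [(Submodule.mem_bot R₀).1 hx, map_zero]⟩
  intro I
  induction I using WellFoundedGT.induction with
  | ind I ih =>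
    have hspan : ∀ (a : R₀) (κ : Type u) [Field κ] [Algebra R₀ κ], (∀ x ∈ I, algebraMap R₀ κ x = 0) →
        algebraMap R₀ κ a = 0 → ∀ x ∈ I ⊔ Ideal.span {a}, algebraMap R₀ κ x = 0 := by
      intro a κ _ _ hI ha x hx
      obtain ⟨y, hy, z, hz, rfl⟩ := Submodule.mem_sup.1 hx
      obtain ⟨b, rfl⟩ := Ideal.mem_span_singleton'.1 hz
      rw [map_add, map_mul, hI y hy, ha, mul_zero, add_zero]
    have hlt : ∀ a, a ∉ I → I < I ⊔ Ideal.span {a} := fun a ha => lt_of_le_of_ne le_sup_left fun e =>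
      ha (e ▸ Ideal.mem_sup_right (Ideal.mem_span_singleton_self a))
    by_cases htop : I = ⊤
    · exact ⟨0, fun κ _ _ hI => absurd ((map_one (algebraMap R₀ κ)).symm.trans (hI 1 (htop ▸ trivial))) one_ne_zero⟩
    by_cases hp : I.IsPrime
    · let D := R₀ ⧸ I
      obtain ⟨f, hf, hflat⟩ := exists_away_grFlat (w := w) (FlatOpen.ext D Z₀)
      obtain ⟨a, rfl⟩ := Ideal.Quotient.mk_surjective f
      let R' := Localization.Away (Ideal.Quotient.mk I a)
      haveI : IsNoetherianRing R' := IsLocalization.isNoetherianRing (Submonoid.powers (Ideal.Quotient.mk I a)) _ inferInstance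
      obtain ⟨c₁, hc₁⟩ := exists_bounded_of_noetherian (w := w) (FlatOpen.ext R' (FlatOpen.ext D Z₀))
      obtain ⟨c₂, hc₂⟩ := ih _ (hlt a fun h => hf (Ideal.Quotient.eq_zero_iff_mem.2 h))
      refine ⟨max c₁ c₂, fun κ _ _ hI => ?_⟩
      by_cases ha : algebraMap R₀ κ a = 0
      · exact (hc₂ κ (hspan a κ hI ha)).mono (le_max_right _ _)
      letI : Algebra D κ := (Ideal.Quotient.lift I (algebraMap R₀ κ) hI).toAlgebra
      haveI : IsScalarTower R₀ D κ := IsScalarTower.of_algebraMap_eq fun _ => rfl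
      letI : Algebra R' κ := (IsLocalization.Away.lift (S := R') (g := algebraMap D κ) (Ideal.Quotient.mk I a)
        (isUnit_iff_ne_zero.2 ha)).toAlgebra
      haveI : IsScalarTower D R' κ := IsScalarTower.of_algebraMap_eq fun x =>
        (IsLocalization.Away.lift_eq (S := R') (Ideal.Quotient.mk I a) _ x).symm
      have h := (hc₁.ext (R := κ) hflat).mono (le_max_left c₁ c₂)
      rwa [ext_ext κ (FlatOpen.ext D Z₀) R', ext_ext κ Z₀ D] at h
    · obtain ⟨a, ha, b, hb, hab⟩ : ∃ a ∉ I, ∃ b ∉ I, a * b ∈ I := by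
        rw [Ideal.isPrime_iff] at hp
        push_neg at hp
        obtain ⟨a, b, hab, ha, hb⟩ := hp htop
        exact ⟨a, ha, b, hb, hab⟩
      obtain ⟨c₁, hc₁⟩ := ih _ (hlt a ha)
      obtain ⟨c₂, hc₂⟩ := ih _ (hlt b hb)
      refine ⟨max c₁ c₂, fun κ _ _ hI => ?_⟩
      rcases mul_eq_zero.1 ((map_mul (algebraMap R₀ κ) a b).symm.trans (hI _ hab)) with h | h
      · exact (hc₁ κ (hspan a κ hI h)).mono (le_max_left _ _)
      · exact (hc₂ κ (hspan b κ hI h)).mono (le_max_right _ _)

/-- Under flatness the intersections are finitely generated. -/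
theorem fg_inf_fil [IsNoetherianRing R₀] [Algebra R₀ R]
    (Z₀ : Submodule (MvPolynomial (Fin N) R₀) (Vec N r R₀)) (hflat : GrFlat w (FlatOpen.ext R Z₀)) (m : ℕ) :
    (FlatOpen.ext R Z₀ ⊓ fil w R m).FG := by
  classical
  haveI : Module.Flat R (Quot R (Z₀ ⊔ fil w R₀ m)) := by
    show Module.Flat R (Vec N r R ⧸ FlatOpen.ext R (Z₀ ⊔ fil w R₀ m))
    rw [ext_sup, ext_fil]
    exact hflat m
  obtain ⟨R₁, hR₁, h₁⟩ := FlatOpen.exists_model_flat_all (Z₀ ⊔ fil w R₀ m) R
  haveI : IsNoetherianRing R₁ := isNoetherianRing_of_fg hR₁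
  haveI : Module.Flat R₁ (Vec N r R₁ ⧸ (FlatOpen.ext R₁ Z₀ ⊔ fil w R₁ m)) := by
    rw [← ext_fil (R₀ := R₀) R₁ m, ← ext_sup]
    exact h₁
  rw [← ext_ext R Z₀ R₁, inf_fil_ext]
  obtain ⟨g, hg⟩ := IsNoetherian.noetherian (FlatOpen.ext R₁ Z₀ ⊓ fil w R₁ m)
  refine ⟨g.image (mapVec R), ?_⟩
  rw [← hg, ext_span, Finset.coe_image]

/-- Under flatness the bound holds over every ring. -/
theorem exists_bounded [IsNoetherianRing R₀] [Algebra R₀ R] (hw : ∀ i, w i ≤ 1)
    (Z₀ : Submodule (MvPolynomial (Fin N) R₀) (Vec N r R₀)) (hflat : GrFlat w (FlatOpen.ext R Z₀)) :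
    ∃ c, Bounded w c (FlatOpen.ext R Z₀) := by
  classical
  obtain ⟨c, hc⟩ := exists_bound_fields (w := w) Z₀
  refine ⟨c, fun n hn => ?_⟩
  let P := MvPolynomial (Fin N) R
  let Z := FlatOpen.ext R Z₀
  let T := Z ⊓ fil w R (n + 1)
  let S := idl w R • (Z ⊓ fil w R n) ⊔ fil w R (n + 2)
  show T ≤ S
  let D := T ⊔ fil w R (n + 2)
  have hD : D = (Z ⊔ fil w R (n + 2)) ⊓ fil w R (n + 1) := by
    rw [sup_comm Z, sup_inf_assoc_of_le Z (fil_antitone (Nat.le_succ _)), sup_comm]
  haveI : Module.Flat R (Vec N r R ⧸ D) := by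
    haveI := hflat (n + 2)
    haveI := flat_quot_fil (r := r) (R := R) hw (n + 1)
    haveI : Module.Flat R (Vec N r R ⧸ (Z ⊔ fil w R (n + 2) ⊔ fil w R (n + 1))) := by
      rw [sup_assoc, sup_eq_right.2 (fil_antitone (Nat.le_succ _) : fil w R (n + 2) ≤ fil w R (n + 1))]
      exact hflat (n + 1)
    rw [hD]
    exact flat_quot_inf _ _
  have hSD : S ≤ D := sup_le_sup_right (le_inf (Submodule.smul_le_right.trans inf_le_left)
    ((Submodule.smul_mono le_rfl inf_le_right).trans (idl_smul_fil_le n))) _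
  let K : Submodule P (Vec N r R ⧸ S) := T.map S.mkQ
  let I := S.colon (T : Set (Vec N r R))
  by_contra hTS
  have hI : I ≠ ⊤ := fun h => hTS fun v hv => by
    simpa using Submodule.mem_colon.1 (h ▸ Submodule.mem_top : (1 : P) ∈ I) v hv
  obtain ⟨q, hq, hIq⟩ := Ideal.exists_le_maximal I hI
  haveI := hq.isPrime
  let p := q.comap (algebraMap R P)
  let κ := FractionRing (R ⧸ p)
  have key : K ≤ q • K := by
    rintro - ⟨v, hv, rfl⟩
    have h1 : mapVec κ v ∈ FlatOpen.ext κ S := by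
      have h2 : mapVec κ v ∈ FlatOpen.ext κ Z₀ ⊓ fil w κ (n + 1) := by
        rw [← ext_fil κ (n + 1) (w := w) (R₀ := R), ← ext_ext κ Z₀ R]
        exact ⟨mapVec_mem_ext κ Z hv.1, mapVec_mem_ext κ _ hv.2⟩
      have h3 := hc κ n hn h2
      haveI := hflat n
      rwa [← ext_ext κ Z₀ R, inf_fil_ext, ← map_idl κ (R₀ := R), ← ext_smul, ← ext_fil κ (n + 2) (R₀ := R),
        ← ext_sup] at h3
    rw [← ext_ext κ S (R ⧸ p)] at h1
    rw [← FlatOpen.mapVec_trans κ (R ⧸ p) v] at h1
    obtain ⟨d, hd, u, hu, hdu⟩ := FlatOpen.exists_smul_eq_mapVec _ h1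
    obtain ⟨e, rfl⟩ := Ideal.Quotient.mk_surjective d
    rw [← map_smul] at hdu
    have h4 := FlatOpen.mapVec_injective κ (IsFractionRing.injective (R ⧸ p) κ) hdu
    obtain ⟨s, hs, hsu⟩ : ∃ s ∈ S, mapVec (R ⧸ p) s = u := by
      rw [← Submodule.restrictScalars_mem (R ⧸ p), FlatOpen.ext_eq_span_R] at hu
      clear hdu h4
      induction hu using Submodule.span_induction with
      | mem x hx => exact hx
      | zero => exact ⟨0, zero_mem _, map_zero _⟩
      | add x y _ _ hx hy =>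
        obtain ⟨a, ha, rfl⟩ := hx
        obtain ⟨b, hb, rfl⟩ := hy
        exact ⟨a + b, add_mem ha hb, map_add _ _ _⟩
      | smul x y _ hy =>
        obtain ⟨a, ha, rfl⟩ := hy
        obtain ⟨x, rfl⟩ := Ideal.Quotient.mk_surjective x
        refine ⟨x • a, Submodule.smul_of_tower_mem _ x ha, ?_⟩
        rw [map_smul, ← algebraMap_smul (R ⧸ p) x]
        rfl
    have h5 : mapVec (R ⧸ p) (e • v - s) = 0 := by
      rw [map_sub, map_smul, hsu, sub_eq_zero, ← h4, ← algebraMap_smul (R ⧸ p) e]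
      rfl
    have h6 : e • v - s ∈ p • (⊤ : Submodule R (Vec N r R)) := by
      have h7 : (1 : R ⧸ p) ⊗ₜ[R] (e • v - s) = 0 := (vecEquiv (R ⧸ p)).injective (by
        rw [vecEquiv_tmul, one_smul, h5, map_zero])
      have h8 := congrArg (TensorProduct.quotTensorEquivQuotSMul (Vec N r R) p) h7
      rw [map_zero, show (1 : R ⧸ p) = Ideal.Quotient.mk p 1 from rfl,
        TensorProduct.quotTensorEquivQuotSMul_mk_tmul, one_smul, Submodule.Quotient.mk_eq_zero] at h8
      exact h8
    have h9 := FlatIdeal.mem_smul_ker_of_flat (D.mkQ.restrictScalars R) (Submodule.mkQ_surjective D) p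
      (LinearMap.mem_ker.2 ((Submodule.Quotient.mk_eq_zero D).2
        (sub_mem (Submodule.smul_of_tower_mem _ e (Submodule.mem_sup_left hv)) (hSD hs)))) h6
    have h10 : S.mkQ (e • v - s) ∈ q • K := by
      refine Submodule.smul_induction_on (p := fun y => S.mkQ y ∈ q • K) h9 (fun a ha y hy => ?_)
        (fun y z hy hz => by rw [map_add]; exact add_mem hy hz)
      have hy' : y ∈ D := (Submodule.Quotient.mk_eq_zero D).1 (LinearMap.mem_ker.1 hy)
      obtain ⟨t, ht, f, hf, rfl⟩ := Submodule.mem_sup.1 hy'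
      rw [LinearMap.map_smul_of_tower, map_add, show S.mkQ f = 0 from
        (Submodule.Quotient.mk_eq_zero S).2 (Submodule.mem_sup_right hf), add_zero, ← algebraMap_smul P a]
      exact Submodule.smul_mem_smul ha ⟨t, ht, rfl⟩
    rw [map_sub, show S.mkQ s = 0 from (Submodule.Quotient.mk_eq_zero S).2 hs, sub_zero,
      LinearMap.map_smul_of_tower, ← algebraMap_smul P e] at h10
    have heq : algebraMap R P e ∉ q := fun h => hd (Ideal.Quotient.eq_zero_iff_mem.2 h)
    obtain ⟨a, b, hb, hab⟩ := hq.exists_inv heq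
    rw [← one_smul P (S.mkQ v), ← hab, add_smul, mul_smul]
    exact add_mem (Submodule.smul_mem _ _ h10) (Submodule.smul_mem_smul hb ⟨v, hv, rfl⟩)
  have hK : K.FG := (fg_inf_fil Z₀ hflat (n + 1)).map _
  obtain ⟨x, hx1, hx⟩ := Submodule.exists_sub_one_mem_and_smul_eq_zero_of_fg_of_le_smul q K hK key
  have hxI : x ∈ I := Submodule.mem_colon.2 fun v hv => by
    rw [← Submodule.Quotient.mk_eq_zero S, Submodule.Quotient.mk_smul]
    exact hx _ ⟨v, hv, rfl⟩
  exact hq.ne_top ((Ideal.eq_top_iff_one q).2 (by simpa using q.sub_mem (hIq hxI) hx1))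

end Groth.Agent.Fibres16.NormFlat
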