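import Groth.Agent.Fibres16.NormFlat.Graded
import Mathlib.RingTheory.Ideal.MinimalPrime.Noetherian
import Mathlib.RingTheory.Spectrum.Prime.RingHom

/-!
# Stratification of a Noetherian base making all the truncations flat

* `exists_wtPres`: weighted presentations exist.
* `exists_flat_away`: over a Noetherian domain all `M ⧸ J^m M` become flat after inverting one element.
* `exists_strata`: the resulting stratification.
-/

set_option autoImplicit false
set_option linter.style.haveILetI false

universe u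

open TensorProduct Function

namespace Groth.Agent.Fibres16.NormFlat

open Groth.Agent.FlatOpen (Vec Quot quotEquiv)

variable {A B : Type u} [CommRing A] [CommRing B] [Algebra A B] (J : Ideal B)
  (M : Type u) [AddCommGroup M] [Module B M] [Module A M] [IsScalarTower A B M]

theorem exists_wtPres [Algebra.FiniteType A B] (hJ : J.FG) [Module.Finite B M] :
    ∃ (N r : ℕ) (w : Fin N → ℕ) (π : MvPolynomial (Fin N) A →ₐ[A] B) (φ : Vec N r A →ₗ[A] M),
      IsWtPres w J π φ := by
  classical
  obtain ⟨n, π₀, hπ₀⟩ := Algebra.FiniteType.iff_quotient_mvPolynomial''.mp ‹Algebra.FiniteType A B›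
  obtain ⟨g, hg⟩ := hJ
  let e : g ≃ Fin g.card := g.equivFin
  let w : Fin (n + g.card) → ℕ := Fin.addCases (fun _ => 0) (fun _ => 1)
  let val : Fin (n + g.card) → B := Fin.addCases (fun i => π₀ (MvPolynomial.X i)) (fun j => (e.symm j : B))
  let π : MvPolynomial (Fin (n + g.card)) A →ₐ[A] B := MvPolynomial.aeval val
  have hπ : Surjective π := by
    intro b
    obtain ⟨p, rfl⟩ := hπ₀ b
    refine ⟨MvPolynomial.rename (Fin.castAdd g.card) p, ?_⟩
    show MvPolynomial.aeval val (MvPolynomial.rename (Fin.castAdd g.card) p) = π₀ p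
    rw [MvPolynomial.aeval_rename]
    conv_rhs => rw [MvPolynomial.aeval_unique π₀]
    congr 2
    funext i
    simp [val]
  have hπJ : (idl w A).map π = J := by
    rw [idl, Ideal.map_span, ← hg]
    congr 1
    ext b
    constructor
    · rintro ⟨-, ⟨i, hi, rfl⟩, rfl⟩
      show MvPolynomial.aeval val (MvPolynomial.X i) ∈ _
      rw [MvPolynomial.aeval_X]
      induction i using Fin.addCases with
      | left i => exact absurd (by simp [w]) hi
      | right j => simp [val]
    · intro hb
      refine ⟨MvPolynomial.X (Fin.natAdd n (e ⟨b, hb⟩)), ⟨_, by simp [w], rfl⟩, ?_⟩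
      show MvPolynomial.aeval val _ = b
      simp [val]
  obtain ⟨r, s, hs⟩ := Module.Finite.exists_fin (R := B) (M := M)
  let P := MvPolynomial (Fin (n + g.card)) A
  letI : Algebra P B := π.toRingHom.toAlgebra
  letI : Module P M := Module.compHom M π.toRingHom
  haveI : IsScalarTower P B M := IsScalarTower.of_algebraMap_smul fun _ _ => rfl
  haveI : IsScalarTower A P M := IsScalarTower.of_algebraMap_smul fun a m => by
    show π (algebraMap A P a) • m = a • m
    rw [π.commutes, algebraMap_smul]
  let φP : Vec (n + g.card) r A →ₗ[P] M := Fintype.linearCombination P s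
  refine ⟨_, r, w, π, φP.restrictScalars A,
    { wt_le := fun i => by induction i using Fin.addCases <;> simp [w]
      surj := hπ
      map_idl := hπJ
      surj' := fun m => ?_
      smul := fun p v => map_smul φP p v }⟩
  have hm : m ∈ Submodule.span B (Set.range s) := hs ▸ Submodule.mem_top
  obtain ⟨c, rfl⟩ := (Submodule.mem_span_range_iff_exists_fun B).1 hm
  choose p hp using fun i => hπ (c i)
  refine ⟨p, ?_⟩
  show φP p = _
  rw [Fintype.linearCombination_apply]
  exact Finset.sum_congr rfl fun i _ => congrArg (· • s i) (hp i)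

/-- All truncations become flat after inverting one element (`D` a domain). -/
theorem exists_flat_away [IsNoetherianRing A] [Algebra.FiniteType A B] (hJ : J.FG) [Module.Finite B M]
    (p : Ideal A) [p.IsPrime] :
    ∃ f ∉ p, ∀ g, f ∣ g → ∀ m : ℕ, Module.Flat (Localization.Away (Ideal.Quotient.mk p g))
      (Localization.Away (Ideal.Quotient.mk p g) ⊗[A] (M ⧸ (J ^ m • ⊤ : Submodule B M))) := by
  obtain ⟨N, r, w, π, φ, h⟩ := exists_wtPres (A := A) J M hJ
  let D := A ⧸ p
  obtain ⟨f, hf, hflat⟩ := exists_away_grFlat (w := w) (FlatOpen.ext D (kerP h))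
  obtain ⟨a, rfl⟩ := Ideal.Quotient.mk_surjective f
  refine ⟨a, fun ha => hf (Ideal.Quotient.eq_zero_iff_mem.2 ha), fun g hg m => ?_⟩
  obtain ⟨b, rfl⟩ := hg
  let R' := Localization.Away (Ideal.Quotient.mk p a)
  let A' := Localization.Away (Ideal.Quotient.mk p (a * b))
  have hu : IsUnit (algebraMap D A' (Ideal.Quotient.mk p a)) := by
    refine isUnit_of_mul_isUnit_left (y := algebraMap D A' (Ideal.Quotient.mk p b)) ?_
    rw [← map_mul, ← map_mul]
    exact IsLocalization.Away.algebraMap_isUnit _
  letI : Algebra R' A' := (IsLocalization.Away.lift (S := R') (g := algebraMap D A') _ hu).toAlgebra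
  haveI : IsScalarTower D R' A' := IsScalarTower.of_algebraMap_eq fun x =>
    (IsLocalization.Away.lift_eq (S := R') (Ideal.Quotient.mk p a) hu x).symm
  let W : Submodule (MvPolynomial (Fin N) A) (Vec N r A) := kerP h ⊔ fil w A m
  haveI : Module.Flat R' (Quot R' (FlatOpen.ext D W)) := by
    show Module.Flat R' (Vec N r R' ⧸ FlatOpen.ext R' (FlatOpen.ext D W))
    rw [ext_sup, ext_sup, ext_fil, ext_fil]
    exact hflat m
  haveI : Module.Flat A' (Quot A' (FlatOpen.ext D W)) := FlatOpen.flat_quot_of_tower _ A' R'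
  haveI : Module.Flat A' (Quot A' W) := by
    show Module.Flat A' (Vec N r A' ⧸ FlatOpen.ext A' W)
    rw [← FlatOpen.ext_ext A' W D]
    infer_instance
  let φm : Vec N r A →ₗ[A] M ⧸ (J ^ m • ⊤ : Submodule B M) :=
    ((J ^ m • ⊤ : Submodule B M).mkQ.restrictScalars A) ∘ₗ φ
  have hφm : Surjective φm := (Submodule.mkQ_surjective _).comp h.surj'
  have hk : LinearMap.ker φm = W.restrictScalars A := by
    ext v
    rw [LinearMap.mem_ker, Submodule.restrictScalars_mem, ← h.map_mem_iff]
    exact Submodule.Quotient.mk_eq_zero _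
  let E : (Vec N r A ⧸ W) ≃ₗ[A] M ⧸ (J ^ m • ⊤ : Submodule B M) :=
    ((Submodule.Quotient.restrictScalarsEquiv A W).symm.trans
      (Submodule.quotEquivOfEq _ _ hk.symm)).trans (φm.quotKerEquivOfSurjective hφm)
  exact Module.Flat.of_linearEquiv
    ((AlgebraTensorModule.congr (LinearEquiv.refl A' A') E).symm.trans (quotEquiv A' W))

/-- The graded pieces of the base change are flat. -/
theorem flat_gr_baseChange (A' : Type u) [CommRing A'] [Algebra A A']
    (hflat : ∀ m : ℕ, Module.Flat A' (A' ⊗[A] (M ⧸ (J ^ m • ⊤ : Submodule B M)))) (n : ℕ) :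
    Module.Flat A'
      ↥(Submodule.map
          (LinearMap.range (LinearMap.baseChange A'
            ((J ^ (n + 1) • (⊤ : Submodule B M)).restrictScalars A).subtype)).mkQ
          (LinearMap.range (LinearMap.baseChange A'
            ((J ^ n • (⊤ : Submodule B M)).restrictScalars A).subtype))) := by
  let R : ℕ → Submodule A' (A' ⊗[A] M) := fun k =>
    LinearMap.range (LinearMap.baseChange A' ((J ^ k • (⊤ : Submodule B M)).restrictScalars A).subtype)
  have hq : ∀ k, Module.Flat A' ((A' ⊗[A] M) ⧸ R k) := fun k => by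
    haveI := hflat k
    exact Module.Flat.of_linearEquiv (M := A' ⊗[A] (M ⧸ (J ^ k • ⊤ : Submodule B M)))
      (AlgebraTensorModule.tensorQuotientEquiv A' B A' (J ^ k • ⊤ : Submodule B M)).symm
  have hle : R (n + 1) ≤ R n := by
    rintro - ⟨x, rfl⟩
    have hJ : ((J ^ (n + 1) • (⊤ : Submodule B M)).restrictScalars A) ≤
        (J ^ n • (⊤ : Submodule B M)).restrictScalars A :=
      fun y hy => Submodule.smul_mono_left (Ideal.pow_le_pow_right (Nat.le_succ n)) hy
    refine ⟨(Submodule.inclusion hJ).baseChange A' x, ?_⟩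
    rw [← LinearMap.comp_apply, ← LinearMap.baseChange_comp, Submodule.subtype_comp_inclusion]
  haveI := hq n
  haveI := hq (n + 1)
  haveI := FlatMor.FlatLemmas.flat_ker (Submodule.factor hle) (Submodule.factor_surjective hle)
  refine Module.Flat.of_linearEquiv (LinearEquiv.ofEq _ (LinearMap.ker (Submodule.factor hle)) ?_)
  rw [Submodule.factor, Submodule.ker_mapQ, Submodule.comap_id]

omit [Algebra A B] [Module A M] [IsScalarTower A B M] in
/-- The locally closed set `V(p) ∩ D(g)`. -/
def stratum (p : Ideal A) (g : A) : Set (PrimeSpectrum A) :=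
  {x | p ≤ x.asIdeal ∧ g ∉ x.asIdeal}

/-- A stratification of `V(I)` with property `P` on the strata. -/
theorem exists_strata [IsNoetherianRing A] (P : Ideal A → A → Prop)
    (hP : ∀ p : Ideal A, p.IsPrime → ∃ f ∉ p, ∀ g, f ∣ g → P p g) (I : Ideal A) :
    ∃ (m : ℕ) (p : Fin m → Ideal A) (g : Fin m → A), (∀ i, P (p i) (g i)) ∧
      (∀ i, stratum (p i) (g i) ⊆ {x | I ≤ x.asIdeal}) ∧
      (∀ x : PrimeSpectrum A, I ≤ x.asIdeal → ∃ i, x ∈ stratum (p i) (g i)) ∧
      ∀ i j, i < j → ∀ x ∈ stratum (p j) (g j), g i ∈ x.asIdeal := by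
  classical
  induction I using WellFoundedGT.induction with
  | ind I ih =>
    by_cases htop : I = ⊤
    · exact ⟨0, Fin.elim0, Fin.elim0, fun i => i.elim0, fun i => i.elim0,
        fun x hx => absurd (top_le_iff.1 (htop ▸ hx)) x.2.ne_top, fun i => i.elim0⟩
    obtain ⟨m₀, hm₀, hIm₀⟩ := Ideal.exists_le_maximal I htop
    haveI := hm₀.isPrime
    obtain ⟨p, hp, -⟩ := Ideal.exists_minimalPrimes_le hIm₀
    haveI : p.IsPrime := hp.1.1
    have hfin := I.finite_minimalPrimes_of_isNoetherianRing A
    have hsep : ∀ q ∈ hfin.toFinset.erase p, ∃ a ∈ q, a ∉ p := by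
      intro q hq
      obtain ⟨hqp, hq⟩ := Finset.mem_erase.1 hq
      rw [Set.Finite.mem_toFinset] at hq
      exact Set.not_subset.1 fun hle => hqp (le_antisymm hle (hp.2 hq.1 hle))
    choose! a haq hap using hsep
    let c := ∏ q ∈ hfin.toFinset.erase p, a q
    have hcp : c ∉ p := prod_mem (S := p.primeCompl) hap
    obtain ⟨f, hf, hfP⟩ := hP p inferInstance
    let g := f * c
    have hgp : g ∉ p := Ideal.IsPrime.mul_notMem ‹_› hf hcp
    have hg : ∀ x : PrimeSpectrum A, I ≤ x.asIdeal → g ∉ x.asIdeal → p ≤ x.asIdeal := by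
      intro x hx hgx
      obtain ⟨q, hq, hqx⟩ := Ideal.exists_minimalPrimes_le hx
      rcases eq_or_ne q p with rfl | hne
      · exact hqx
      · refine absurd (x.asIdeal.mul_mem_left f (hqx ?_)) hgx
        exact Ideal.mem_of_dvd _ (Finset.dvd_prod_of_mem a
          (Finset.mem_erase.2 ⟨hne, hfin.mem_toFinset.2 hq⟩))
          (haq q (Finset.mem_erase.2 ⟨hne, hfin.mem_toFinset.2 hq⟩))
    have hlt : I < I ⊔ Ideal.span {g} := lt_of_le_of_ne le_sup_left fun e =>
      hgp (hp.1.2 (e ▸ Ideal.mem_sup_right (Ideal.mem_span_singleton_self g)))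
    obtain ⟨m, ps, gs, hps, hsub, hcov, hord⟩ := ih _ hlt
    refine ⟨m + 1, Fin.cons p ps, Fin.cons g gs, Fin.cases (hfP g (dvd_mul_right f c)) hps,
      Fin.cases (fun x hx => hp.1.2.trans hx.1) (fun i x hx => (le_sup_left : I ≤ _).trans (show I ⊔ Ideal.span {g} ≤ x.asIdeal from hsub i hx)),
      fun x hx => ?_, ?_⟩
    · by_cases hgx : g ∈ x.asIdeal
      · obtain ⟨i, hi⟩ := hcov x (sup_le hx ((Ideal.span_singleton_le_iff_mem _).2 hgx))
        exact ⟨i.succ, hi⟩
      · exact ⟨0, hg x hx hgx, hgx⟩
    · intro i j hij x hx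
      induction j using Fin.cases with
      | zero => exact absurd hij (Fin.not_lt_zero _)
      | succ j =>
        induction i using Fin.cases with
        | zero => exact (hsub j hx) (Ideal.mem_sup_right (Ideal.mem_span_singleton_self g))
        | succ i => exact hord i j (Fin.succ_lt_succ_iff.1 hij) x hx

theorem range_comap_away_quotient (p : Ideal A) (g : A) :
    Set.range (PrimeSpectrum.comap (algebraMap A (Localization.Away (Ideal.Quotient.mk p g)))) =
      stratum p g := by
  rw [IsScalarTower.algebraMap_eq A (A ⧸ p) (Localization.Away (Ideal.Quotient.mk p g)),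
    PrimeSpectrum.comap_comp, Set.range_comp,
    PrimeSpectrum.localization_away_comap_range _ (Ideal.Quotient.mk p g)]
  ext x
  constructor
  · rintro ⟨y, hy, rfl⟩
    refine ⟨fun z hz => ?_, hy⟩
    show Ideal.Quotient.mk p z ∈ y.asIdeal
    rw [Ideal.Quotient.eq_zero_iff_mem.2 hz]
    exact zero_mem _
  · rintro ⟨hx, hgx⟩
    obtain ⟨y, rfl⟩ : x ∈ Set.range (PrimeSpectrum.comap (Ideal.Quotient.mk p)) := by
      rw [range_comap_of_surjective _ _ Ideal.Quotient.mk_surjective, Ideal.mk_ker]
      exact hx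
    exact ⟨y, hgx, rfl⟩

end Groth.Agent.Fibres16.NormFlat
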